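import Groth.Agent.CurvSt.K508.StabPow
import Groth.Agent.CurvSt.K901.OpenSub
import Groth.Agent.JacVar.K533.CurveBasic

/-!
# The locus of smooth curves in a family of stable curves

* `isStableFam_of_isPullback` : stable families are stable under base change.
* `isSmoothPtdFam_iff` : a stable pointed family is a smooth pointed family if and only if it is smooth.
* `openLocus` : the smooth pointed families form an open locus in `Mbar S g n`.
-/

set_option autoImplicit false

universe u

open CategoryTheory CategoryTheory.Limits AlgebraicGeometry CurvSt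

namespace K508.SmLocus

open K508.FibPow K508.StabPow Groth.Agent

variable {n g : ℕ}

theorem exists_geometric_point (T : Scheme.{u}) (s : T) :
    ∃ (Ω : Type u) (_ : Field Ω) (_ : IsAlgClosed Ω) (t : Spec (CommRingCat.of Ω) ⟶ T), t (pt Ω) = s := by
  refine ⟨AlgebraicClosure (T.residueField s), inferInstance, inferInstance,
    Spec.map (CommRingCat.ofHom (algebraMap (T.residueField s) (AlgebraicClosure (T.residueField s)))) ≫
      T.fromSpecResidueField s, ?_⟩
  rw [Scheme.Hom.comp_apply]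
  exact T.fromSpecResidueField_apply s _

/-- Marked points only depend on the geometric fibre. -/
theorem markedPt_congr_fun {C T C' T' : Scheme.{u}} {f : C ⟶ T} {f' : C' ⟶ T'} {σ : Fin n → (T ⟶ C)}
    (hσ : ∀ i, σ i ≫ f = 𝟙 T) {σ' : Fin n → (T' ⟶ C')} (hσ' : ∀ i, σ' i ≫ f' = 𝟙 T') {Ω : Type u} [Field Ω]
    {t : Spec (CommRingCat.of Ω) ⟶ T} {t' : Spec (CommRingCat.of Ω) ⟶ T'} {X : Scheme.{u}} {i : X ⟶ C}
    {q : X ⟶ Spec (CommRingCat.of Ω)} (hP : IsPullback i q f t) {i' : X ⟶ C'} (hP' : IsPullback i' q f' t')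
    (a : C ⟶ C') (ha : i ≫ a = i') (hj : ∀ j, t ≫ σ j ≫ a = t' ≫ σ' j) :
    markedPt σ hσ hP = markedPt σ' hσ' hP' := by
  funext j
  have h : hP.lift (t ≫ σ j) (𝟙 _) (by rw [Category.assoc, hσ, Category.comp_id, Category.id_comp]) =
      hP'.lift (t' ≫ σ' j) (𝟙 _) (by rw [Category.assoc, hσ', Category.comp_id, Category.id_comp]) := by
    apply hP'.hom_ext
    · rw [IsPullback.lift_fst, ← ha, IsPullback.lift_fst_assoc, Category.assoc, hj]
    · rw [IsPullback.lift_snd, IsPullback.lift_snd]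
  exact congrArg (fun l : Spec (CommRingCat.of Ω) ⟶ X => l.base (IsLocalRing.closedPoint Ω)) h

/-- Stable families are stable under base change. -/
theorem isStableFam_of_isPullback {C T C' T' : Scheme.{u}} {f : C ⟶ T} {f' : C' ⟶ T'} {σ : Fin n → (T ⟶ C)}
    {hσ : ∀ i, σ i ≫ f = 𝟙 T} {σ' : Fin n → (T' ⟶ C')} (hσ' : ∀ i, σ' i ≫ f' = 𝟙 T') (h : IsStableFam f σ hσ g)
    {a : C' ⟶ C} {b : T' ⟶ T} (sq : IsPullback a f' f b) (hs : ∀ i, σ' i ≫ a = b ≫ σ i) :
    IsStableFam f' σ' hσ' g := by
  obtain ⟨h1, h2, h3, h4⟩ := h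
  refine ⟨MorphismProperty.of_isPullback sq h1, MorphismProperty.of_isPullback sq h2,
    MorphismProperty.of_isPullback sq h3, fun Ω _ _ t X i q hP => ?_⟩
  have hP' : IsPullback (i ≫ a) q f (t ≫ b) := hP.paste_horiz sq
  have := h4 Ω (t ≫ b) X (i ≫ a) q hP'
  rwa [markedPt_congr_fun hσ' hσ hP hP' a rfl fun j => by rw [hs, Category.assoc]]

section one

variable {C T : Scheme.{u}} {f : C ⟶ T} {σ : Fin n → (T ⟶ C)} {hσ : ∀ i, σ i ≫ f = 𝟙 T}

/-- The geometric fibres of a stable family are connected. -/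
theorem geometricallyConnected (h : IsStableFam f σ hσ g) : GeometricallyConnected f := by
  refine ⟨fun K _ y Z a b hP => ?_⟩
  let e : Spec (CommRingCat.of (AlgebraicClosure K)) ⟶ Spec (CommRingCat.of K) :=
    Spec.map (CommRingCat.ofHom (algebraMap K (AlgebraicClosure K)))
  have hP2 := IsPullback.of_hasPullback b e
  obtain ⟨-, h2, -⟩ := h.2.2.2 (AlgebraicClosure K) (e ≫ y) _ _ _ (hP2.paste_horiz hP)
  have hs : Surjective e := by
    refine ⟨fun z => ⟨pt _, ?_⟩⟩
    exact Subsingleton.elim (α := PrimeSpectrum K) _ _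
  have h3 : Surjective (pullback.fst b e) := inferInstance
  have h4 : ConnectedSpace ↥(pullback b e) := h2
  exact h3.surj.connectedSpace (pullback.fst b e).continuous

/-- The sections of a stable family are disjoint. -/
theorem disjoint_sections (h : IsStableFam f σ hσ g) (i j : Fin n) (hij : i ≠ j) (c : T) :
    (σ i).base c ≠ (σ j).base c := by
  intro hc
  obtain ⟨Ω, _, _, t, rfl⟩ := exists_geometric_point T c
  have hP := IsPullback.of_hasPullback f t
  obtain ⟨-, -, -, -, h5, -⟩ := h.2.2.2 Ω t _ _ _ hP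
  refine hij (h5 ?_)
  let s : Fin n → (Spec (CommRingCat.of Ω) ⟶ pullback f t) := fun i =>
    hP.lift (t ≫ σ i) (𝟙 _) (by rw [Category.assoc, hσ, Category.comp_id, Category.id_comp])
  have hs1 : ∀ i, s i ≫ pullback.snd f t = 𝟙 _ := fun i => hP.lift_snd _ _ _
  have hs2 : ∀ i, s i ≫ pullback.fst f t = t ≫ σ i := fun i => hP.lift_fst _ _ _
  change s i (pt Ω) = s j (pt Ω)
  have hsq := isPullback_section hP (σ j) (hσ j) (s j) (hs1 j) (hs2 j)
  have h6 : (pullback.fst f t) (s i (pt Ω)) ∈ Set.range (σ j) := by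
    rw [← Scheme.Hom.comp_apply, hs2, Scheme.Hom.comp_apply]
    exact ⟨t (pt Ω), hc.symm⟩
  obtain ⟨z, hz⟩ := mem_range_of_isPullback hsq h6
  rw [← hz]
  exact congrArg (s j) (Subsingleton.elim (α := PrimeSpectrum Ω) _ _)

/-- A stable pointed family is a smooth pointed family if and only if it is smooth. -/
theorem isSmoothPtdFam_iff (h : IsStableFam f σ hσ g) : IsSmoothPtdFam f σ g ↔ Smooth f := by
  refine ⟨fun h => h.1.1, fun hf => ⟨⟨hf, h.2.1, ?_, fun Ω _ _ t X i q hP => ?_⟩, disjoint_sections h⟩⟩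
  · have hg := geometricallyConnected h
    refine ⟨fun K _ y Z a b hP => ?_⟩
    have h1 : Smooth b := MorphismProperty.of_isPullback hP hf
    have h2 : GeometricallyConnected b := MorphismProperty.of_isPullback hP hg
    have h3 : IsIntegral Z := K533.CurveBasic.isIntegral b
    exact inferInstanceAs (IrreducibleSpace Z)
  · obtain ⟨-, -, h3, ⟨-, h4⟩, -⟩ := h.2.2.2 Ω t X i q hP
    exact ⟨h3, h4⟩

/-- The open locus of the base over which a proper morphism is smooth. -/
noncomputable def smBase (f : C ⟶ T) [LocallyOfFinitePresentation f] [IsProper f] : T.Opens :=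
  ⟨(f '' ((f.smoothLocus : Set C)ᶜ))ᶜ, (f.isClosedMap _ f.smoothLocus.isOpen.isClosed_compl).isOpen_compl⟩

theorem mem_smBase [LocallyOfFinitePresentation f] [IsProper f] {t : T} :
    t ∈ smBase f ↔ ∀ c : C, f c = t → c ∈ f.smoothLocus := by
  change t ∈ (f '' ((f.smoothLocus : Set C)ᶜ))ᶜ ↔ _
  rw [Set.mem_compl_iff]
  constructor
  · intro h c hc
    by_contra hcon
    exact h ⟨c, hcon, hc⟩
  · rintro h ⟨c, hc1, hc2⟩
    exact hc1 (h c hc2)

/-- A base change of a flat proper family is smooth if and only if the base maps to the smooth locus. -/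
theorem smooth_iff_range_subset [LocallyOfFinitePresentation f] [IsProper f] [Flat f] {C' T' : Scheme.{u}}
    {f' : C' ⟶ T'} {a : C' ⟶ C} {b : T' ⟶ T} (sq : IsPullback a f' f b) :
    Smooth f' ↔ Set.range b ⊆ (smBase f : Set T) := by
  have hfp : LocallyOfFinitePresentation f' := MorphismProperty.of_isPullback sq ‹_›
  rw [← Scheme.Hom.smoothLocus_eq_top_iff, S2155.result f b f' a sq (Or.inl inferInstance)]
  constructor
  · rintro h _ ⟨t', rfl⟩
    refine mem_smBase.2 fun c hc => ?_
    obtain ⟨z, hz1, -⟩ := Scheme.Pullback.exists_preimage_pullback c t' hc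
    have h1 : sq.isoPullback.inv z ∈ a ⁻¹ᵁ f.smoothLocus := by rw [h]; trivial
    have h2 : a (sq.isoPullback.inv z) = c := by
      rw [← Scheme.Hom.comp_apply, sq.isoPullback_inv_fst, hz1]
    change a (sq.isoPullback.inv z) ∈ f.smoothLocus at h1
    rwa [h2] at h1
  · intro h
    rw [eq_top_iff]
    intro c' _
    refine mem_smBase.1 (h ⟨f' c', rfl⟩) (a c') ?_
    rw [← Scheme.Hom.comp_apply, ← Scheme.Hom.comp_apply, sq.w]

end one

/-- The smooth pointed curves among the stable ones. -/
def Sm (S : Scheme.{u}) (g n : ℕ) (A : (Mbar S g n).obj) : Prop := IsSmoothPtdFam A.obj.f A.obj.sect g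

/-- The smooth pointed families form an open locus. -/
theorem openLocus (S : Scheme.{u}) (g n : ℕ) : K901.OpenSub.OpenLocus (Mbar S g n) (Sm S g n) := by
  intro A
  have h : IsStableFam A.obj.f A.obj.sect A.obj.sect_f g := A.property
  have h1 : Flat A.obj.f := h.1
  have h2 : IsProper A.obj.f := h.2.1
  have h3 : LocallyOfFinitePresentation A.obj.f := h.2.2.1
  let W : A.obj.base.left.Opens := smBase A.obj.f
  refine ⟨W, fun B φ => ?_⟩
  have key : Smooth B.obj.f ↔ Set.range φ.hom.base.left ⊆ (smBase A.obj.f : Set A.obj.base.left) :=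
    smooth_iff_range_subset φ.hom.cart
  exact (isSmoothPtdFam_iff B.property).trans key

end K508.SmLocus
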