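import Groth.Agent.CurvSt.K508.SmLocus
import Groth.Agent.CurvSt.K896.StPts

/-!
# Connectedness of the stack of stable pointed curves: nodes L2 and L3 of the proof of S16728

* `exists_kpt_of_dense` : over an algebraically closed field `k`, if the objects with `Q` form an open dense locus, every
  non-empty open of the space of points contains the class of a `k`-object with `Q`;
* `preconnectedSpace_of_atlas` : `|Mbar_{g,n}|` is connected if there is an irreducible complete family of smooth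
  `n`-pointed curves of genus `g` (`FibPow.Atlas`) and the smooth locus is dense.
-/

set_option autoImplicit false
set_option backward.isDefEq.respectTransparency false
set_option backward.isDefEq.respectTransparency.types false

universe v₂ u₂ u

open CategoryTheory CategoryTheory.Limits AlgebraicGeometry Opposite AlgSp CurvSt

namespace K508.ConnPts

open K901.OpenSub K896.StPts K508.SmLocus K508.FibPow

section gen

variable {S : Scheme.{u}} {𝒳 : BasedCategory.{v₂, u₂} (Over S)} {Q : 𝒳.obj → Prop}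

/-- A property with open locus descends along morphisms which are surjective on bases. -/
theorem of_hom_surj (h : OpenLocus 𝒳 Q) {A B : 𝒳.obj} (φ : B ⟶ A) (hs : Function.Surjective (𝒳.p.map φ).left)
    (hB : Q B) : Q A := by
  obtain ⟨W, h1, h2⟩ := h.iff_top A
  have h3 := (h2 B φ).1 hB
  rw [hs.range_eq] at h3
  exact h1.2 (Set.univ_subset_iff.1 h3)

theorem subsingleton_base (p : AlgSt.FPt 𝒳) : Subsingleton (𝒳.p.obj p.obj).left := by
  rw [p.lies]
  exact inferInstanceAs (Subsingleton (PrimeSpectrum p.K))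

theorem nonempty_base (p : AlgSt.FPt 𝒳) : Nonempty (𝒳.p.obj p.obj).left := by
  rw [p.lies]
  exact inferInstanceAs (Nonempty (PrimeSpectrum p.K))

theorem of_fpt_hom (h : OpenLocus 𝒳 Q) {p q : AlgSt.FPt 𝒳} (φ : q.obj ⟶ p.obj) (hq : Q q.obj) : Q p.obj := by
  refine of_hom_surj h φ (fun y => ?_) hq
  have := subsingleton_base p
  obtain ⟨x⟩ := nonempty_base q
  exact ⟨x, Subsingleton.elim _ _⟩

theorem of_mk_eq (h𝒳 : FibCat.IsFibGrpd 𝒳.p) (h : OpenLocus 𝒳 Q) {p q : AlgSt.FPt 𝒳}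
    (he : AlgSt.Points.mk p = AlgSt.Points.mk q) (hq : Q q.obj) : Q p.obj := by
  obtain ⟨r, a, b, -⟩ := (K735.Pts.mk_eq_mk_iff h𝒳).1 he
  exact of_fpt_hom h a (h.stable b hq)

end gen

section kpts

variable {k : Type u} [Field k] {𝒴 : BasedCategory.{v₂, u₂} (Over (Spec (CommRingCat.of k)))} {Q : 𝒴.obj → Prop}

/-- Over an algebraically closed field every non-empty open contains a `k`-object with `Q`. -/
theorem exists_kpt_of_dense [IsAlgClosed k] {K : Precoverage Scheme.{u}} (h𝒴 : AlgSt.IsAlgStack K 𝒴)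
    (hft : AlgSt.LocQ (LocP @LocallyOfFiniteType) (FibCat.toSelf 𝒴)) (hQ : OpenLocus 𝒴 Q)
    (hden : Dense (Set.range (AlgSt.Points.map (AlgSt.subIncl 𝒴 Q)))) (V : Set (AlgSt.Points 𝒴)) (hV : IsOpen V)
    (hne : V.Nonempty) : ∃ (a : 𝒴.obj) (ha : 𝒴.p.obj a = Over.mk (𝟙 _)), Q a ∧ kpt a ha ∈ V := by
  obtain ⟨U, x, hx, hxs, hU⟩ := exists_atlas_lft hft
  have hJ : JacobsonSpace U.left := LocallyOfFiniteType.jacobsonSpace U.hom
  have hc := K736.QC.continuous_ofChart h𝒴 x
  obtain ⟨W, hW⟩ := hQ.chart x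
  obtain ⟨v, hv, ⟨d, rfl⟩⟩ := hden.inter_open_nonempty V hV hne
  obtain ⟨p, rfl⟩ := AlgSt.Points.mk_surjective d
  rw [AlgSt.Points.map_mk] at hv
  obtain ⟨t, ht⟩ := K736.QC.surjective_ofChart h𝒴 hxs (AlgSt.Points.mk (p.map (AlgSt.subIncl 𝒴 Q)))
  have htW : t ∈ (W : Set U.left) := by
    have h1 := of_mk_eq h𝒴.isStack.1 hQ ht p.obj.property
    have h2 := (hW (Over.mk (Over.homMk (U.left.fromSpecResidueField t) rfl :
      Over.mk (U.left.fromSpecResidueField t ≫ U.hom) ⟶ U))).1 h1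
    refine h2 ⟨IsLocalRing.closedPoint _, ?_⟩
    exact U.left.fromSpecResidueField_apply t _
  obtain ⟨z, ⟨hz1, hz2⟩, hzc⟩ := nonempty_inter_closedPoints (Z := AlgSt.Points.ofChart x ⁻¹' V ∩ W)
    ⟨t, by rw [Set.mem_preimage, ht]; exact hv, htW⟩ ((hV.preimage hc).inter W.isOpen).isLocallyClosed
  let σ := ((pointEquivClosedPoint U.hom).symm ⟨z, hzc⟩).1
  have hσ : σ ≫ U.hom = 𝟙 _ := ((pointEquivClosedPoint U.hom).symm ⟨z, hzc⟩).2
  have hσz : σ (IsLocalRing.closedPoint k) = z := by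
    have := congrArg Subtype.val ((pointEquivClosedPoint U.hom).apply_symm_apply ⟨z, hzc⟩)
    exact this
  let m : Over.mk (𝟙 (Spec (CommRingCat.of k))) ⟶ U := Over.homMk σ hσ
  refine ⟨x.obj (Over.mk m), x.w_obj _, ?_, ?_⟩
  · refine (hW _).2 ?_
    rintro _ ⟨y, rfl⟩
    have h1 : y = IsLocalRing.closedPoint k := Subsingleton.elim (α := PrimeSpectrum k) _ _
    rw [h1]
    change σ (IsLocalRing.closedPoint k) ∈ (W : Set U.left)
    rw [hσz]
    exact hz2
  · have h1 := K737.Chart.ofChart_eq_mk x (K := k) m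
    have h2 : m.left (IsLocalRing.closedPoint k) = z := hσz
    rw [h2] at h1
    change AlgSt.Points.mk (K737.Chart.fpt x m) ∈ V
    rw [← h1]
    exact hz1

/-- `|𝒴|` is connected if all `k`-objects with `Q` lie in one connected component. -/
theorem preconnectedSpace_of_kpts_dense [IsAlgClosed k] {K : Precoverage Scheme.{u}} (h𝒴 : AlgSt.IsAlgStack K 𝒴)
    (hft : AlgSt.LocQ (LocP @LocallyOfFiniteType) (FibCat.toSelf 𝒴)) (hQ : OpenLocus 𝒴 Q)
    (hden : Dense (Set.range (AlgSt.Points.map (AlgSt.subIncl 𝒴 Q))))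
    (h : ∀ (a : 𝒴.obj) (ha : 𝒴.p.obj a = Over.mk (𝟙 _)) (b : 𝒴.obj) (hb : 𝒴.p.obj b = Over.mk (𝟙 _)), Q a → Q b →
      kpt b hb ∈ connectedComponent (kpt a ha)) : PreconnectedSpace (AlgSt.Points 𝒴) := by
  rw [preconnectedSpace_iff_clopen]
  intro s hs
  by_contra hcon
  rw [not_or] at hcon
  obtain ⟨h1, h2⟩ := hcon
  obtain ⟨a, ha, hQa, hab⟩ := exists_kpt_of_dense h𝒴 hft hQ hden s hs.2 (Set.nonempty_iff_ne_empty.2 h1)
  obtain ⟨b, hb, hQb, hbs⟩ := exists_kpt_of_dense h𝒴 hft hQ hden sᶜ hs.1.isOpen_compl (Set.nonempty_compl.2 h2)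
  exact hbs (hs.connectedComponent_subset hab (h a ha b hb hQa hQb))

end kpts

end K508.ConnPts
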