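import Groth.Agent.CurvSt.K508.UniqFam
import Groth.Agent.CurvSt.K316.MbarAlg
import Groth.Agent.CurvSt.K898.StdCurves

/-!
# Separatedness of the stack of stable pointed curves over a locally Noetherian base from uniqueness of limits
-/

set_option autoImplicit false
set_option backward.isDefEq.respectTransparency false
set_option backward.isDefEq.respectTransparency.types false

universe v' w' v w u

open CategoryTheory CategoryTheory.Limits AlgebraicGeometry Opposite CurvSt AlgSp

namespace K508.Uniq

theorem Std.of_equiv {S : Scheme.{u}} {𝒳 : BasedCategory.{v, w} (Over S)} {𝒴 : BasedCategory.{v', w'} (Over S)}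
    {e : 𝒳 ⥤ᵇ 𝒴} (he : FibCat.IsEquivOver e) (h : K738.OSub.Std 𝒴) : K738.OSub.Std 𝒳 where
  alg := (K740.Inv.isAlgStack_iff _ he).2 h.alg
  sep := (K740.Inv.repByAlgSpWith_diagSelf_iff _ he).2 h.sep
  qc := (K740.Inv.repByAlgSpWith_diagSelf_iff _ he).2 h.qc
  lft := (K738.Sep.locQ_toSelf_iff he).2 h.lft

/-- The stack of stable pointed curves is algebraic, locally of finite type, with separated and quasi-compact
diagonal. -/
theorem std_mbar (S : Scheme.{u}) {g n : ℕ} (hg : 3 ≤ 2 * g + n) : K738.OSub.Std (Mbar S g n) :=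
  Std.of_equiv (K316.MbarAlg.isEquivOver_mbar S hg)
    ((K898.StdCurves.std S n).sub (K316.MbarAlg.hasOpenLocus_stable S g n))

/-- Separatedness over a locally Noetherian base. -/
theorem isSeparatedOver_of_uniqFam (S : Scheme.{u}) [IsLocallyNoetherian S] {g n : ℕ} (hg : 3 ≤ 2 * g + n)
    (h : UniqFam.{u} g n) : AlgSt.IsSeparatedOver (Mbar S g n) :=
  K738.Sep.isSeparatedOver_any (std_mbar S hg).alg (std_mbar S hg).sep (std_mbar S hg).qc (std_mbar S hg).lft
    (uniqLim h S)

end K508.Uniq
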