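import Groth.Agent.CurvSt.K508.UniqEll
import Groth.Agent.CurvSt.K508.UniqSep
import Groth.Agent.CurvSt.K312.Boundary

/-!
# Uniqueness of limits of stable pointed curves and separatedness, from the unpointed case
-/

set_option autoImplicit false

universe u

open CategoryTheory CategoryTheory.Limits AlgebraicGeometry Opposite

namespace K508.Uniq

theorem clutchStmt (g n : ℕ) : ClutchStmt.{u} g n := by
  intro R _ _ _ _
  obtain ⟨F⟩ := exists_ell R
  refine ⟨F, fun p σ hσ h => ?_⟩
  obtain ⟨X', p', ν₁, ν₂, e1, e2, hU, hs⟩ := K312.Boundary.exists_push_succ p F.e g 1 σ hσ F.ε F.hε h F.stable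
  exact ⟨⟨X', p', ν₁, ν₂, e1, e2, hU, hs⟩⟩

/-- **Uniqueness of limits of stable pointed curves follows from the unpointed case.** -/
theorem uniqFam_all (h0 : ∀ g : ℕ, 2 ≤ g → UniqFam.{u} g 0) {g n : ℕ} (hg : 3 ≤ 2 * g + n) : UniqFam.{u} g n :=
  uniqFam_of_zero (fun g n _ => clutchStmt g n) h0 n g hg

/-- Separatedness of `Mbar S g n` over a locally Noetherian base follows from the unpointed case. -/
theorem isSeparatedOver_mbar (h0 : ∀ g : ℕ, 2 ≤ g → UniqFam.{u} g 0) (S : Scheme.{u}) [IsLocallyNoetherian S]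
    {g n : ℕ} (hg : 3 ≤ 2 * g + n) : AlgSt.IsSeparatedOver (CurvSt.Mbar S g n) :=
  isSeparatedOver_of_uniqFam S hg (uniqFam_all h0 hg)

end K508.Uniq
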