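import Groth.Agent.CurvSt.K508.UniqOfSep
import Groth.Agent.CurvSt.K508.UniqAll
import Groth.Agent.CurvSt.K45.MbarQC

/-!
# Separatedness of the stack of stable pointed curves over every base, from the unpointed case over locally Noetherian
bases
-/

set_option autoImplicit false

universe u

open CategoryTheory CategoryTheory.Limits AlgebraicGeometry Opposite CurvSt

namespace K508.SepFinal

/-- Separatedness of `Mbar S g 0` over locally Noetherian bases, `2 ≤ g`. -/
def SepZero : Prop :=
  ∀ g : ℕ, 2 ≤ g → ∀ (S : Scheme.{u}) [IsLocallyNoetherian S], AlgSt.IsSeparatedOver (Mbar S g 0)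

/-- Uniqueness of limits for all stable pointed curves. -/
theorem uniqFam (h0 : SepZero.{u}) {g n : ℕ} (hg : 3 ≤ 2 * g + n) : K508.Uniq.UniqFam.{u} g n :=
  K508.Uniq.uniqFam_all (fun g hg => K508.Uniq.uniqFam_of_isSeparatedOver (by omega) (h0 g hg)) hg

/-- **Separatedness for all `g`, `n`, `S`.** -/
theorem isSeparatedOver (h0 : SepZero.{u}) (S : Scheme.{u}) {g n : ℕ} (hg : 3 ≤ 2 * g + n) :
    AlgSt.IsSeparatedOver (Mbar S g n) :=
  K898.SepMbar.isSeparatedOver_mbar (K45.MbarQC.openCond_stable g n) (fun S => K316.MbarAlg.isDMOver_mbar S hg)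
    (fun T _ => K508.Uniq.isSeparatedOver_of_uniqFam T hg (uniqFam h0 hg)) S

/-- The diagonal is finite. -/
theorem finite_diag (h0 : SepZero.{u}) (S : Scheme.{u}) {g n : ℕ} (hg : 3 ≤ 2 * g + n) :
    AlgSt.RepByAlgSpWith AlgSp.IsFiniteMor (FibCat.diag (FibCat.toSelf (Mbar S g n))) :=
  K898.SepMbar.finite_diag_mbar (K45.MbarQC.openCond_stable g n) (fun S => K316.MbarAlg.isDMOver_mbar S hg)
    (fun T _ => K508.Uniq.isSeparatedOver_of_uniqFam T hg (uniqFam h0 hg)) S

end K508.SepFinal
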