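import Groth.Prelude.Def_StCurv
import Mathlib.AlgebraicGeometry.Geometrically.Irreducible
import Mathlib.AlgebraicGeometry.Noetherian

/-!
# Fibre powers of a smooth family of curves

`K508.FibPow.exists_fibPow` : the universal family with `n` disjoint sections over a family of smooth curves; its base
is smooth, surjective and geometrically irreducible over the base of the family.
-/

set_option autoImplicit false

universe u

open CategoryTheory CategoryTheory.Limits AlgebraicGeometry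

namespace K508.FibPow

/-- Families of curves are stable under base change. -/
theorem isCurveOfGenus_of_isPullback {g : ℕ} {C T C' T' : Scheme.{u}} {f : C ⟶ T} {f' : C' ⟶ T'} {c : C' ⟶ C} {t : T' ⟶ T}
    (h : ModFun.IsCurveOfGenus g f) (hP : IsPullback c f' f t) : ModFun.IsCurveOfGenus g f' := by
  obtain ⟨h1, h2, h3, h4⟩ := h
  refine ⟨MorphismProperty.of_isPullback hP h1, MorphismProperty.of_isPullback hP h2,
    MorphismProperty.of_isPullback hP h3, fun Ω _ _ s X i q hq => h4 Ω (s ≫ t) X (i ≫ c) q (hq.paste_horiz hP)⟩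

/-- The square of a section and its base change. -/
theorem isPullback_section {C T X Y : Scheme.{u}} {f : C ⟶ T} {i : X ⟶ C} {q : X ⟶ Y} {t : Y ⟶ T} (hP : IsPullback i q f t)
    (σ : T ⟶ C) (hσ : σ ≫ f = 𝟙 T) (s : Y ⟶ X) (hs : s ≫ q = 𝟙 Y) (hsi : s ≫ i = t ≫ σ) :
    IsPullback s t i σ := by
  refine IsPullback.of_right (h₁₁ := s) (h₁₂ := q) (v₁₁ := t) (v₁₂ := i) (v₁₃ := t) (h₂₁ := σ) (h₂₂ := f) ?_ hsi hP.flip
  rw [hs, hσ]
  exact IsPullback.of_horiz_isIso ⟨by rw [Category.id_comp, Category.comp_id]⟩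

theorem mem_range_of_isPullback {P X Y Z : Scheme.{u}} {s : P ⟶ X} {t : P ⟶ Y} {i : X ⟶ Z} {σ : Y ⟶ Z}
    (h : IsPullback s t i σ) {x : X} (hx : i x ∈ Set.range σ) : x ∈ Set.range s := by
  have h1 : x ∈ Set.range (pullback.fst i σ) := by
    rw [Scheme.Pullback.range_fst]
    exact hx
  obtain ⟨y, rfl⟩ := h1
  refine ⟨h.isoPullback.inv y, ?_⟩
  rw [← Scheme.Hom.comp_apply, h.isoPullback_inv_fst]

/-- In a smooth family of curves every fibre has a point outside the sections. -/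
theorem exists_not_mem {g : ℕ} {C T : Scheme.{u}} {f : C ⟶ T} (hf : ModFun.IsCurveOfGenus g f) {n : ℕ}
    (σ : Fin n → (T ⟶ C)) (hσ : ∀ i, σ i ≫ f = 𝟙 T) (x : T) : ∃ y : C, f y = x ∧ ∀ i, y ∉ Set.range (σ i) := by
  obtain ⟨h1, h2, h3, h4⟩ := hf
  let Ω := AlgebraicClosure (T.residueField x)
  let t : Spec (CommRingCat.of Ω) ⟶ T :=
    Spec.map (CommRingCat.ofHom (algebraMap (T.residueField x) Ω)) ≫ T.fromSpecResidueField x
  have hP := IsPullback.of_hasPullback f t
  obtain ⟨h5, -⟩ := h4 Ω t _ _ _ hP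
  have hirr : IrreducibleSpace ↥(pullback f t) := inferInstance
  have hpt : ∀ z : Spec (CommRingCat.of Ω), t z = x := by
    intro z
    have : (Spec.map (CommRingCat.ofHom (algebraMap (T.residueField x) Ω)) ≫ T.fromSpecResidueField x) z = x := by
      rw [Scheme.Hom.comp_apply]
      exact T.fromSpecResidueField_apply x _
    exact this
  refine ⟨pullback.fst f t (genericPoint ↥(pullback f t)), ?_, ?_⟩
  · rw [← Scheme.Hom.comp_apply, pullback.condition, Scheme.Hom.comp_apply]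
    exact hpt _
  · intro i hi
    let s : Spec (CommRingCat.of Ω) ⟶ pullback f t := pullback.lift (t ≫ σ i) (𝟙 _) (by
      rw [Category.assoc, hσ, Category.comp_id, Category.id_comp])
    have hs : s ≫ pullback.snd f t = 𝟙 _ := pullback.lift_snd _ _ _
    have hsi : s ≫ pullback.fst f t = t ≫ σ i := pullback.lift_fst _ _ _
    have hsq := isPullback_section hP (σ i) (hσ i) s hs hsi
    have h6 : genericPoint ↥(pullback f t) ∈ Set.range s := mem_range_of_isPullback hsq hi
    have h7 : IsClosed (Set.range s) := by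
      have : IsClosedImmersion s := by
        have : IsClosedImmersion (s ≫ pullback.snd f t) := by rw [hs]; infer_instance
        exact IsClosedImmersion.of_comp s (pullback.snd f t)
      exact s.isClosedEmbedding.isClosed_range
    have h8 : Set.range s = Set.univ := by
      rw [Set.eq_univ_iff_forall]
      intro y
      have h9 : y ∈ closure {genericPoint ↥(pullback f t)} := by rw [genericPoint_closure]; trivial
      exact (closure_minimal (Set.singleton_subset_iff.2 h6) h7) h9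
    have h10 : Subsingleton ↥(pullback f t) := by
      refine ⟨fun a b => ?_⟩
      obtain ⟨a', rfl⟩ : a ∈ Set.range s := by rw [h8]; trivial
      obtain ⟨b', rfl⟩ : b ∈ Set.range s := by rw [h8]; trivial
      rw [Subsingleton.elim a' b']
    have h11 : topologicalKrullDim ↥(pullback f t) ≤ 0 := topologicalKrullDim_zero_of_discreteTopology _
    rw [h5] at h11
    exact absurd h11 (by decide)

/-- The sections of a separated family have closed image. -/
theorem isClosed_range {C T : Scheme.{u}} {f : C ⟶ T} [IsSeparated f] (σ : T ⟶ C) (hσ : σ ≫ f = 𝟙 T) :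
    IsClosed (Set.range σ) := by
  have : IsClosedImmersion σ := by
    have : IsClosedImmersion (σ ≫ f) := by rw [hσ]; infer_instance
    exact IsClosedImmersion.of_comp σ f
  exact σ.isClosedEmbedding.isClosed_range

/-- The complement of the sections. -/
def compl {C T : Scheme.{u}} {f : C ⟶ T} [IsSeparated f] {n : ℕ} (σ : Fin n → (T ⟶ C)) (hσ : ∀ i, σ i ≫ f = 𝟙 T) :
    C.Opens :=
  ⟨(⋃ i, Set.range (σ i))ᶜ, (isClosed_iUnion_of_finite fun i => isClosed_range (σ i) (hσ i)).isOpen_compl⟩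

theorem mem_compl {C T : Scheme.{u}} {f : C ⟶ T} [IsSeparated f] {n : ℕ} {σ : Fin n → (T ⟶ C)}
    {hσ : ∀ i, σ i ≫ f = 𝟙 T} {x : C} : x ∈ compl σ hσ ↔ ∀ i, x ∉ Set.range (σ i) := by
  change x ∈ (⋃ i, Set.range (σ i))ᶜ ↔ _
  rw [Set.mem_compl_iff, Set.mem_iUnion, not_exists]

section step

variable {T C U C' : Scheme.{u}} (f : C ⟶ T) (u : U ⟶ T) (c : C' ⟶ C) (f' : C' ⟶ U) (hP : IsPullback c f' f u)
  {n : ℕ} (σ : Fin n → (U ⟶ C')) (hσ : ∀ i, σ i ≫ f' = 𝟙 U) (W : C'.Opens)

/-- The sections of the new family: the old ones and the tautological one. -/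
noncomputable def sec : Fin (n + 1) → ((W : Scheme.{u}) ⟶ pullback f' (W.ι ≫ f')) :=
  Fin.snoc (α := fun _ => ((W : Scheme.{u}) ⟶ pullback f' (W.ι ≫ f')))
    (fun i => pullback.lift (W.ι ≫ f' ≫ σ i) (𝟙 _) (by
      rw [Category.assoc, Category.assoc, hσ, Category.comp_id, Category.id_comp]))
    (pullback.lift W.ι (𝟙 _) (Category.id_comp _).symm)

theorem sec_castSucc_fst (i : Fin n) : sec f' σ hσ W i.castSucc ≫ pullback.fst _ _ = W.ι ≫ f' ≫ σ i := by
  rw [sec, Fin.snoc_castSucc, pullback.lift_fst]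

theorem sec_last_fst : sec f' σ hσ W (Fin.last n) ≫ pullback.fst _ _ = W.ι := by
  rw [sec, Fin.snoc_last, pullback.lift_fst]

theorem sec_snd (i : Fin (n + 1)) : sec f' σ hσ W i ≫ pullback.snd _ _ = 𝟙 _ := by
  refine Fin.lastCases ?_ (fun i => ?_) i
  · rw [sec, Fin.snoc_last, pullback.lift_snd]
  · rw [sec, Fin.snoc_castSucc, pullback.lift_snd]

theorem sec_disjoint (hW : ∀ x ∈ W, ∀ i, x ∉ Set.range (σ i)) (hdis : ∀ i j, i ≠ j → ∀ x : U, σ i x ≠ σ j x)
    (i j : Fin (n + 1)) (hij : i ≠ j) (x : (W : Scheme.{u})) : sec f' σ hσ W i x ≠ sec f' σ hσ W j x := by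
  have key : ∀ (i : Fin n) (x : (W : Scheme.{u})), sec f' σ hσ W i.castSucc x ≠ sec f' σ hσ W (Fin.last n) x := by
    intro i x h
    have h1 := congrArg (pullback.fst f' (W.ι ≫ f')) h
    rw [← Scheme.Hom.comp_apply, ← Scheme.Hom.comp_apply, sec_castSucc_fst, sec_last_fst] at h1
    refine hW (W.ι x) x.2 i ⟨f' (W.ι x), ?_⟩
    rw [Scheme.Hom.comp_apply, Scheme.Hom.comp_apply] at h1
    exact h1
  induction i using Fin.lastCases with
  | last =>
    induction j using Fin.lastCases with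
    | last => exact absurd rfl hij
    | cast j => exact (key j x).symm
  | cast i =>
    induction j using Fin.lastCases with
    | last => exact key i x
    | cast j =>
      intro h
      have h1 := congrArg (pullback.fst f' (W.ι ≫ f')) h
      rw [← Scheme.Hom.comp_apply, ← Scheme.Hom.comp_apply, sec_castSucc_fst, sec_castSucc_fst,
        Scheme.Hom.comp_apply, Scheme.Hom.comp_apply, Scheme.Hom.comp_apply, Scheme.Hom.comp_apply] at h1
      exact hdis i j (fun h => hij (by rw [h])) _ h1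

include hP in
theorem isPullback_step : IsPullback (pullback.fst f' (W.ι ≫ f') ≫ c) (pullback.snd f' (W.ι ≫ f')) f
    (W.ι ≫ f' ≫ u) := by
  have h := (IsPullback.of_hasPullback f' (W.ι ≫ f')).paste_horiz hP
  rwa [Category.assoc] at h

/-- Property of the base of the universal family with disjoint sections. -/
def Univ (f : C ⟶ T) (u : U ⟶ T) (c : C' ⟶ C) (σ : Fin n → (U ⟶ C')) (A : C.Opens) : Prop :=
  ∀ (V X : Scheme.{u}) (v : V ⟶ T) (j : X ⟶ C) (q : X ⟶ V), IsPullback j q f v → ∀ (s : Fin n → (V ⟶ X)),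
    (∀ i, s i ≫ q = 𝟙 V) → (∀ i x, j (s i x) ∈ A) → (∀ i i', i ≠ i' → ∀ x : V, s i x ≠ s i' x) →
    ∃! w : V ⟶ U, w ≫ u = v ∧ ∀ i, w ≫ σ i ≫ c = s i ≫ j

include hP in
theorem univ_step (A : C.Opens) (hu : Univ f u c σ A)
    (hW : ∀ x : C', x ∈ W ↔ c x ∈ A ∧ ∀ i, x ∉ Set.range (σ i)) :
    Univ f (W.ι ≫ f' ≫ u) (pullback.fst f' (W.ι ≫ f') ≫ c) (sec f' σ hσ W) A := by
  intro V X v j q hq s hs hA hdis
  obtain ⟨w, ⟨hw1, hw2⟩, hw3⟩ := hu V X v j q hq (fun i => s i.castSucc) (fun i => hs _) (fun i => hA _)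
    (fun i j hij x => hdis _ _ (fun h => hij (Fin.castSucc_injective n h)) x)
  let j' : X ⟶ C' := hP.lift j (q ≫ w) (by rw [hq.w, Category.assoc, hw1])
  have hj1 : j' ≫ c = j := hP.lift_fst _ _ _
  have hj2 : j' ≫ f' = q ≫ w := hP.lift_snd _ _ _
  have hq' : IsPullback j' q f' w := by
    refine IsPullback.of_right ?_ hj2 hP
    rw [hj1, hw1]
    exact hq
  have hsj : ∀ i : Fin n, s i.castSucc ≫ j' = w ≫ σ i := by
    intro i
    apply hP.hom_ext
    · rw [Category.assoc, hj1, Category.assoc, hw2]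
    · rw [Category.assoc, hj2, reassoc_of% (hs i.castSucc), Category.assoc, hσ, Category.comp_id]
  let y : V ⟶ C' := s (Fin.last n) ≫ j'
  have hy1 : y ≫ c = s (Fin.last n) ≫ j := by rw [Category.assoc, hj1]
  have hy2 : y ≫ f' = w := by rw [Category.assoc, hj2, reassoc_of% (hs (Fin.last n))]
  have hyW : ∀ x : V, y x ∈ W := by
    intro x
    rw [hW]
    constructor
    · rw [← Scheme.Hom.comp_apply, hy1, Scheme.Hom.comp_apply]
      exact hA _ _
    · intro i hi
      have hsq := isPullback_section hq' (σ i) (hσ i) (s i.castSucc) (hs _) (hsj i)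
      rw [Scheme.Hom.comp_apply] at hi
      obtain ⟨z, hz⟩ := mem_range_of_isPullback hsq hi
      have h1 : z = x := by
        have h2 := congrArg q hz
        rw [← Scheme.Hom.comp_apply, ← Scheme.Hom.comp_apply, hs, hs] at h2
        exact h2
      rw [h1] at hz
      exact hdis _ _ (Fin.castSucc_lt_last i).ne x hz
  let w₁ : V ⟶ W := IsOpenImmersion.lift W.ι y (by
    rintro _ ⟨x, rfl⟩
    rw [Scheme.Opens.range_ι]
    exact hyW x)
  have hw₁ : w₁ ≫ W.ι = y := IsOpenImmersion.lift_fac _ _ _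
  refine ⟨w₁, ⟨?_, ?_⟩, ?_⟩
  · rw [reassoc_of% hw₁, reassoc_of% hy2, hw1]
  · intro i
    induction i using Fin.lastCases with
    | last =>
      have h1 := sec_last_fst f' σ hσ W
      rw [reassoc_of% h1, reassoc_of% hw₁, hy1]
    | cast i =>
      have h1 := sec_castSucc_fst f' σ hσ W i
      rw [reassoc_of% h1, reassoc_of% hw₁, reassoc_of% hy2, hw2]
  · rintro w' ⟨h1, h2⟩
    have h3 : w' ≫ W.ι ≫ f' = w := by
      apply hw3
      refine ⟨by rw [Category.assoc, Category.assoc, h1], fun i => ?_⟩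
      have h4 := sec_castSucc_fst f' σ hσ W i
      rw [← h2 i.castSucc, reassoc_of% h4, Category.assoc, Category.assoc]
    rw [← cancel_mono W.ι, hw₁]
    apply hP.hom_ext
    · have h4 := sec_last_fst f' σ hσ W
      rw [hy1, ← h2 (Fin.last n), reassoc_of% h4, Category.assoc]
    · rw [hy2, Category.assoc, h3]

/-- The classifying map of a pointed family. -/
theorem Univ.exists_hom {f : C ⟶ T} {u : U ⟶ T} {c : C' ⟶ C} {f' : C' ⟶ U} {σ : Fin n → (U ⟶ C')} {A : C.Opens}
    (hu : Univ f u c σ A) (hP : IsPullback c f' f u) (hσ : ∀ i, σ i ≫ f' = 𝟙 U)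
    {V X : Scheme.{u}} {v : V ⟶ T} {j : X ⟶ C} {q : X ⟶ V} (hq : IsPullback j q f v)
    (s : Fin n → (V ⟶ X)) (hs : ∀ i, s i ≫ q = 𝟙 V) (hA : ∀ i x, j (s i x) ∈ A)
    (hdis : ∀ i i', i ≠ i' → ∀ x : V, s i x ≠ s i' x) :
    ∃ (w : V ⟶ U) (j' : X ⟶ C'), w ≫ u = v ∧ j' ≫ c = j ∧ IsPullback j' q f' w ∧ ∀ i, s i ≫ j' = w ≫ σ i := by
  obtain ⟨w, ⟨hw1, hw2⟩, -⟩ := hu V X v j q hq s hs hA hdis
  let j' : X ⟶ C' := hP.lift j (q ≫ w) (by rw [hq.w, Category.assoc, hw1])
  have hj1 : j' ≫ c = j := hP.lift_fst _ _ _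
  have hj2 : j' ≫ f' = q ≫ w := hP.lift_snd _ _ _
  refine ⟨w, j', hw1, hj1, ?_, fun i => ?_⟩
  · refine IsPullback.of_right ?_ hj2 hP
    rw [hj1, hw1]
    exact hq
  · apply hP.hom_ext
    · rw [Category.assoc, hj1, Category.assoc, hw2]
    · rw [Category.assoc, hj2, reassoc_of% (hs i), Category.assoc, hσ, Category.comp_id]

end step

theorem geometricallyIrreducible_id (T : Scheme.{u}) : GeometricallyIrreducible (𝟙 T) := by
  refine ⟨geometrically_iff_of_isClosedUnderIsomorphisms.mpr fun K _ x ↦ ?_⟩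
  rw [(asIso (pullback.snd (𝟙 T) x)).hom.homeomorph.irreducibleSpace_iff]
  infer_instance

/-- The universal family with `n` disjoint sections over a smooth family of curves. -/
theorem exists_fibPow {T C : Scheme.{u}} (f : C ⟶ T) (g : ℕ) (hf : ModFun.IsCurveOfGenus g f) (n : ℕ) :
    ∃ (U : Scheme.{u}) (u : U ⟶ T) (C' : Scheme.{u}) (c : C' ⟶ C) (f' : C' ⟶ U) (σ : Fin n → (U ⟶ C'))
      (_ : ∀ i, σ i ≫ f' = 𝟙 U), IsPullback c f' f u ∧ CurvSt.IsSmoothPtdFam f' σ g ∧ Smooth u ∧ IsSeparated u ∧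
      Surjective u ∧ GeometricallyIrreducible u ∧ (IsLocallyNoetherian T → QuasiCompact u) ∧
      Univ f u c σ ⊤ := by
  induction n with
  | zero =>
    refine ⟨T, 𝟙 T, C, 𝟙 C, f, fun i => i.elim0, fun i => i.elim0, IsPullback.of_horiz_isIso ⟨by simp⟩,
      ⟨hf, fun i => i.elim0⟩, inferInstance, inferInstance, inferInstance, geometricallyIrreducible_id T, fun _ => inferInstance, ?_⟩
    · intro V X v j q hq s hs _ _
      exact ⟨v, ⟨Category.comp_id _, fun i => i.elim0⟩, fun w hw => by rw [← hw.1, Category.comp_id]⟩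
  | succ n ih =>
    obtain ⟨U, u, C', c, f', σ, hσ, hP, ⟨hf', hdis⟩, h1, h2, h3, h4, h5, hu⟩ := ih
    have hf'' := hf'
    obtain ⟨i1, i2, i3, -⟩ := hf''
    let W : C'.Opens := compl σ hσ
    have hWm : ∀ x : C', x ∈ W ↔ ∀ i, x ∉ Set.range (σ i) := fun x => mem_compl
    have hP' := isPullback_step f u c f' hP W
    have hsur : Surjective (W.ι ≫ f') := by
      refine ⟨fun x => ?_⟩
      obtain ⟨y, hy1, hy2⟩ := exists_not_mem hf' σ hσ x
      exact ⟨⟨y, (hWm y).2 hy2⟩, (Scheme.Hom.comp_apply _ _ _).trans hy1⟩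
    have hsur' : Surjective (W.ι ≫ f' ≫ u) := by
      have h7 : Surjective ((W.ι ≫ f') ≫ u) := inferInstance
      rwa [Category.assoc] at h7
    refine ⟨W, W.ι ≫ f' ≫ u, pullback f' (W.ι ≫ f'), pullback.fst f' (W.ι ≫ f') ≫ c, pullback.snd f' (W.ι ≫ f'),
      sec f' σ hσ W, sec_snd f' σ hσ W, hP', ⟨isCurveOfGenus_of_isPullback hf hP', ?_⟩, inferInstance, inferInstance,
      ?_, ?_, ?_, ?_⟩
    · exact fun i j hij x => sec_disjoint f' σ hσ W (fun x hx => (hWm x).1 hx) hdis i j hij x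
    · exact hsur'
    · have h6 : GeometricallyIrreducible (f' ≫ u) := GeometricallyIrreducible.comp f' u
      infer_instance
    · intro h
      have := h5 h
      have h7 : IsLocallyNoetherian U := LocallyOfFiniteType.isLocallyNoetherian u
      have h8 : IsLocallyNoetherian C' := LocallyOfFiniteType.isLocallyNoetherian f'
      infer_instance
    · exact univ_step f u c f' hP σ hσ W ⊤ hu (fun x => by rw [hWm]; simp)

/-! ### Adding a point to a complete family -/

/-- Every smooth `n`-pointed curve of genus `g` over an algebraically closed field over `S` is a fibre of the family. -/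
def Complete {S T C : Scheme.{u}} (b : T ⟶ S) (f : C ⟶ T) {n : ℕ} (σ : Fin n → (T ⟶ C)) (g : ℕ) : Prop :=
  ∀ (Ω : Type u) [Field Ω] [IsAlgClosed Ω] (t : Spec (CommRingCat.of Ω) ⟶ S) (X : Scheme.{u})
    (q : X ⟶ Spec (CommRingCat.of Ω)) (s : Fin n → (Spec (CommRingCat.of Ω) ⟶ X)), (∀ i, s i ≫ q = 𝟙 _) →
    CurvSt.IsSmoothPtdFam q s g →
    ∃ (v : Spec (CommRingCat.of Ω) ⟶ T) (j : X ⟶ C), v ≫ b = t ∧ IsPullback j q f v ∧ ∀ i, s i ≫ j = v ≫ σ i

section addPoint

variable {S T C : Scheme.{u}} (b : T ⟶ S) (f : C ⟶ T) {n : ℕ} (σ : Fin n → (T ⟶ C)) (hσ : ∀ i, σ i ≫ f = 𝟙 T)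
  {g : ℕ} (W : C.Opens)

/-- The family with one more point over the complement of the sections. -/
theorem isSmoothPtdFam_step (hf : CurvSt.IsSmoothPtdFam f σ g) (hW : ∀ x ∈ W, ∀ i, x ∉ Set.range (σ i)) :
    CurvSt.IsSmoothPtdFam (pullback.snd f (W.ι ≫ f)) (sec f σ hσ W) g :=
  ⟨isCurveOfGenus_of_isPullback hf.1 (IsPullback.of_hasPullback _ _),
    fun i j hij x => sec_disjoint f σ hσ W hW hf.2 i j hij x⟩

/-- The classifying map for the family with one more point. -/
theorem exists_hom_step (hW : ∀ x : C, x ∈ W ↔ ∀ i, x ∉ Set.range (σ i)) {V X : Scheme.{u}} {v : V ⟶ T} {j : X ⟶ C}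
    {q : X ⟶ V} (hq : IsPullback j q f v) (s : Fin (n + 1) → (V ⟶ X)) (hs : ∀ i, s i ≫ q = 𝟙 V)
    (hsj : ∀ i : Fin n, s i.castSucc ≫ j = v ≫ σ i) (hdis : ∀ i i', i ≠ i' → ∀ x : V, s i x ≠ s i' x) :
    ∃ (w : V ⟶ W) (j' : X ⟶ pullback f (W.ι ≫ f)), w ≫ W.ι ≫ f = v ∧ j' ≫ pullback.fst _ _ = j ∧
      IsPullback j' q (pullback.snd f (W.ι ≫ f)) w ∧ ∀ i, s i ≫ j' = w ≫ sec f σ hσ W i := by
  let y : V ⟶ C := s (Fin.last n) ≫ j
  have hy2 : y ≫ f = v := by rw [Category.assoc, hq.w, reassoc_of% (hs (Fin.last n))]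
  have hyW : ∀ x : V, y x ∈ W := by
    intro x
    rw [hW]
    intro i hi
    have hsq := isPullback_section hq (σ i) (hσ i) (s i.castSucc) (hs _) (hsj i)
    rw [Scheme.Hom.comp_apply] at hi
    obtain ⟨z, hz⟩ := mem_range_of_isPullback hsq hi
    have h1 : z = x := by
      have h2 := congrArg q hz
      rw [← Scheme.Hom.comp_apply, ← Scheme.Hom.comp_apply, hs, hs] at h2
      exact h2
    rw [h1] at hz
    exact hdis _ _ (Fin.castSucc_lt_last i).ne x hz
  let w : V ⟶ W := IsOpenImmersion.lift W.ι y (by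
    rintro _ ⟨x, rfl⟩
    rw [Scheme.Opens.range_ι]
    exact hyW x)
  have hw : w ≫ W.ι = y := IsOpenImmersion.lift_fac _ _ _
  have hwv : w ≫ W.ι ≫ f = v := by rw [reassoc_of% hw, hy2]
  let j' : X ⟶ pullback f (W.ι ≫ f) := pullback.lift j (q ≫ w) (by rw [hq.w, Category.assoc, hwv])
  have hj1 : j' ≫ pullback.fst _ _ = j := pullback.lift_fst _ _ _
  have hj2 : j' ≫ pullback.snd _ _ = q ≫ w := pullback.lift_snd _ _ _
  refine ⟨w, j', hwv, hj1, ?_, fun i => ?_⟩
  · refine IsPullback.of_right ?_ hj2 (IsPullback.of_hasPullback f (W.ι ≫ f))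
    rw [hj1, hwv]
    exact hq
  · apply pullback.hom_ext
    · rw [Category.assoc, hj1, Category.assoc]
      induction i using Fin.lastCases with
      | last => rw [sec_last_fst, hw]
      | cast i => rw [sec_castSucc_fst, hsj, reassoc_of% hwv]
    · rw [Category.assoc, hj2, reassoc_of% (hs i), Category.assoc, sec_snd, Category.comp_id]

theorem complete_step (hc : Complete b f σ g) (hW : ∀ x : C, x ∈ W ↔ ∀ i, x ∉ Set.range (σ i)) :
    Complete (W.ι ≫ f ≫ b) (pullback.snd f (W.ι ≫ f)) (sec f σ hσ W) g := by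
  intro Ω _ _ t X q s hs h
  obtain ⟨v, j, h1, h2, h3⟩ := hc Ω t X q (fun i => s i.castSucc) (fun i => hs _)
    ⟨h.1, fun i j hij x => h.2 _ _ (fun h => hij (Fin.castSucc_injective n h)) x⟩
  obtain ⟨w, j', h4, -, h6, h7⟩ := exists_hom_step f σ hσ W hW h2 s hs h3 h.2
  exact ⟨w, j', by rw [← h1, ← h4]; simp only [Category.assoc], h6, h7⟩

/-- A complete family of `n`-pointed curves of genus `g` over an irreducible base of finite type. -/
def Atlas (S : Scheme.{u}) (g n : ℕ) : Prop :=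
  ∃ (T C : Scheme.{u}) (b : T ⟶ S) (f : C ⟶ T) (σ : Fin n → (T ⟶ C)) (_ : ∀ i, σ i ≫ f = 𝟙 T),
    CurvSt.IsSmoothPtdFam f σ g ∧ LocallyOfFiniteType b ∧ QuasiCompact b ∧ IrreducibleSpace T ∧ Complete b f σ g

/-- A complete family of `n`-pointed curves gives one of `n + 1`-pointed curves. -/
theorem Atlas.succ [IsLocallyNoetherian S] {n : ℕ} (h : Atlas S g n) : Atlas S g (n + 1) := by
  obtain ⟨T, C, b, f, σ, hσ, hf, h1, h2, h3, h4⟩ := h
  have hf' := hf.1
  obtain ⟨i1, i2, i3, -⟩ := hf'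
  let W : C.Opens := compl σ hσ
  have hWm : ∀ x : C, x ∈ W ↔ ∀ i, x ∉ Set.range (σ i) := fun x => mem_compl
  have h7 : IsLocallyNoetherian T := LocallyOfFiniteType.isLocallyNoetherian b
  have h8 : IsLocallyNoetherian C := LocallyOfFiniteType.isLocallyNoetherian f
  refine ⟨W, _, W.ι ≫ f ≫ b, pullback.snd f (W.ι ≫ f), sec f σ hσ W, sec_snd f σ hσ W,
    isSmoothPtdFam_step f σ hσ W hf (fun x hx => (hWm x).1 hx), inferInstance, inferInstance, ?_,
    complete_step b f σ hσ W h4 hWm⟩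
  have h9 : IrreducibleSpace C := GeometricallyIrreducible.irreducibleSpace f f.isOpenMap
  obtain ⟨y, -, hy2⟩ := exists_not_mem hf.1 σ hσ (genericPoint T)
  have : Nonempty (W : Scheme.{u}) := ⟨⟨y, (hWm y).2 hy2⟩⟩
  exact W.ι.isOpenEmbedding.irreducibleSpace

theorem Atlas.add [IsLocallyNoetherian S] {n : ℕ} (h : Atlas S g n) (m : ℕ) : Atlas S g (n + m) := by
  induction m with
  | zero => exact h
  | succ m ih => exact ih.succ

end addPoint

end K508.FibPow
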