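import Groth.Agent.AlgSt.K608.KMLft
import Groth.Agent.AlgSt.K743.Coarse818
import Groth.Agent.AlgSt.K735.DvrMain
import Groth.Agent.S12828
import Groth.Agent.S12981

/-!
# The coarse moduli space of a proper Deligne-Mumford stack over a locally Noetherian base is proper (helper508)

`K508.CoarseP.exists_proper_coarse`: for S16727, from the Keel-Mori rows.
-/

set_option autoImplicit false
set_option backward.isDefEq.respectTransparency false
set_option backward.isDefEq.respectTransparency.types false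

universe u

open CategoryTheory CategoryTheory.Limits AlgebraicGeometry Opposite
open K608.KMCls K608.KMGeom

namespace K508.CoarseP

variable {S : Scheme.{u}} {𝒳 : AlgSt.Cat S} {M : AlgSp.Sp S}

theorem eq_toT0 (s : M ⟶ (AlgSp.yon S).obj (Over.mk (𝟙 S))) : s = toT0 M :=
  (K596.QC2.isTerminalYon S).hom_ext _ _

theorem univClosed_fppf (h : AlgSt.IsUnivClosed Scheme.etalePrecoverage (FibCat.toSelf 𝒳)) :
    AlgSt.IsUnivClosed Scheme.fppfPrecoverage (FibCat.toSelf 𝒳) := fun 𝒵 h𝒵 g =>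
  h 𝒵 (K735.DvrMain.isAlgStack_et_of_fppf h𝒵) g

theorem quasiCompact_fppf (h : AlgSt.IsQuasiCompactMor Scheme.etalePrecoverage (FibCat.toSelf 𝒳)) :
    AlgSt.IsQuasiCompactMor Scheme.fppfPrecoverage (FibCat.toSelf 𝒳) := fun 𝒵 h𝒵 hq g =>
  h 𝒵 (K735.DvrMain.isAlgStack_et_of_fppf h𝒵) hq g

theorem isAlgStack_selfOver : AlgSt.IsAlgStack Scheme.fppfPrecoverage (FibCat.selfOver (Over S)) :=
  K740.SpDM.isAlgStack_of_repByAlgSp (K740.DiagRep.repByAlgSp_selfOver S)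

theorem exists_proper_coarse [IsLocallyNoetherian S] (hb : K747.EtFppf.Boot2 S)
    (i2 : I16692 S) (i3 : K608.KMLft.I16703 S) (i6 : K608.KMLft.I16696 S)
    (h𝒳 : AlgSt.IsAlgStack Scheme.etalePrecoverage 𝒳) (hDM : AlgSt.IsDMOver 𝒳)
    (hsep : AlgSt.IsSeparatedOver 𝒳) (hft : AlgSt.LocQ (AlgSp.LocP @LocallyOfFiniteType) (FibCat.toSelf 𝒳))
    (hqc : AlgSt.IsQuasiCompactMor Scheme.etalePrecoverage (FibCat.toSelf 𝒳))
    (huc : AlgSt.IsUnivClosed Scheme.etalePrecoverage (FibCat.toSelf 𝒳)) :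
    ∃ (M : AlgSp.Sp S) (π : 𝒳 ⥤ᵇ AlgSt.ofSp M), AlgSt.IsCoarseModuli π ∧
      ∀ s : M ⟶ (AlgSp.yon S).obj (Over.mk (𝟙 S)), AlgSp.IsProperMor s := by
  have hX := (K747.EtFppf.isAlgStack_iff hb).1 h𝒳
  have hI := K743.KM818.finite_inertia hsep hDM
  obtain ⟨M, π, hπ, -, -, hπh⟩ := i2 𝒳 hX hI
  have hM : AlgSp.IsAlgSpace M := hπ.1.1
  have hg := main16706 i2 𝒳 hX hI M π hπ.1
  have hπsurj : Function.Surjective (AlgSt.Points.map π) := surjective_of_univHomeo hM hπh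
  obtain ⟨l, hl⟩ := K743.KM818.exists_toT0 S
  have hSS := isAlgStack_selfOver (S := S)
  have hYS : AlgSt.IsAlgStack Scheme.fppfPrecoverage (AlgSt.ofSp (T0 S)) := K740.SpDM.isAlgStack_ofSp isAlgSpace_T0
  have hMS : AlgSt.IsAlgStack Scheme.fppfPrecoverage (AlgSt.ofSp M) := K740.SpDM.isAlgStack_ofSp hM
  obtain ⟨j⟩ := K743.KM818.iso_of_T0 (BasedFunctor.comp (FibCat.toSelf 𝒳) l)
    (BasedFunctor.comp π (AlgSt.ofSpMap (toT0 M)))
  have hrep := repByAlgSp1_toT0 hM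
  -- quasi-compact
  have q1 := cls_qc.comp hX hSS hYS (quasiCompact_fppf hqc) (cls_qc.of_equiv (fun h => qc_id h) hSS hYS hl)
  have q2 := cls_qc.cancel hX hMS hYS hπsurj (cls_qc.congr hX hYS j q1)
  have q3 := (Groth.Agent.S12981.result S _ _ hMS hYS _ hrep).2 q2
  have q4 : AlgSp.IsQuasiCompactMor (toT0 M) := repByAlgSpWith_toT0_iff _ q3
  -- universally closed
  have u1 := cls_univClosed.comp hX hSS hYS (univClosed_fppf huc)
    (cls_univClosed.of_equiv (fun h => univClosed_id h) hSS hYS hl)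
  have u2 := cls_univClosed.cancel hX hMS hYS hπsurj (cls_univClosed.congr hX hYS j u1)
  have u3 := (Groth.Agent.S12828.result hMS hYS _ hrep).2 u2
  have u4 : AlgSp.IsUnivClosedMor (toT0 M) := repByAlgSpWith_toT0_iff _ u3
  -- locally of finite type
  have hl' : AlgSt.RepByAlgSpWith (AlgSp.LocP @LocallyOfFiniteType) l :=
    have hre := K735.Top.locP_respectsIso (S := S) @LocallyOfFiniteType
    (K740.SpDM.repByAlgSpWith_comp_equiv (x := BasedFunctor.id _) hl).2 (K741.repByAlgSpWith_id _ fun U =>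
      ((K742.nice_lft.yon_iff (𝟙 U)).2 (by change LocallyOfFiniteType (𝟙 _); infer_instance) :
        AlgSp.LocP _ ((AlgSp.yon S).map (𝟙 U))))
  have hp : AlgSt.LocQ (AlgSp.LocP @LocallyOfFiniteType) (BasedFunctor.comp (FibCat.toSelf 𝒳) l) :=
    K742.EvQ.locQ_comp K742.nice_lft hX.isStack.1 hSS.isStack.1 hYS.isStack.1 hX.atlas hSS.atlas hYS.atlas _ _ hft
      (K742.EvQ.locQ_of_rep K742.nice_lft hSS.isStack.1 hYS.isStack.1 hSS.atlas hYS.atlas l hl')
  have hlft : AlgSp.LocP @LocallyOfFiniteType (toT0 M) :=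
    K608.KMLft.main16693 i2 i3 i6 𝒳 hX hI (T0 S) isAlgSpace_T0
      ⟨Over.mk (𝟙 S), 𝟙 _, AlgSp.repWith_id _ _, AlgSp.repWith_id _ _, inferInstanceAs (IsLocallyNoetherian S)⟩
      _ hp M π hπ.1 (toT0 M) ⟨j.symm⟩
  -- separated
  have hs : AlgSp.IsSeparatedMor (toT0 M) := by
    have h0 := main16695 i2 𝒳 hX hI M π hπ.1 hsep
    exact K608.SepAbs.isSeparatedMor_of_isSeparatedSp _ h0
  refine ⟨M, π, ⟨hπ.1, hg⟩, fun s => ?_⟩
  rw [eq_toT0 s]
  exact ⟨hs, ⟨hlft, q4⟩, u4⟩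

end K508.CoarseP
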