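import Groth.Agent.CurvSt.K508.FibPow
import Groth.Agent.EssDim.K995.GenusZeroPt
import Groth.Agent.EssDim.K995.P1Curve
import Groth.Agent.Sga3.H780.PointedProd

/-!
# Complete families of pointed curves of genus zero

`K508.FibPow0.atlas` : over a field there is a family of smooth `n`-pointed curves of genus zero over an irreducible
base of finite type such that every smooth `n`-pointed curve of genus zero over an algebraically closed field is a fibre.
-/

set_option autoImplicit false

universe u

open CategoryTheory CategoryTheory.Limits AlgebraicGeometry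

namespace K508.FibPow0

open K508.FibPow Groth.Agent

theorem complete_P1 (k : Type u) [Field k] :
    Complete (𝟙 (Spec (CommRingCat.of k))) (CohB1.ProjSpace.toSpec 1 k)
      (fun i : Fin 0 => i.elim0) 0 := by
  intro Ω _ _ t X q s hs h
  have h' := h.1
  obtain ⟨i1, i2, i3, -⟩ := h'
  have hne : Nonempty X := by
    have : Surjective q := inferInstance
    obtain ⟨x, -⟩ := q.surjective (IsLocalRing.closedPoint Ω)
    exact ⟨x⟩
  have : Nonempty (Over.mk q).left := hne
  have : LocallyOfFiniteType (Over.mk q).hom := inferInstanceAs (LocallyOfFiniteType q)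
  obtain ⟨σ⟩ := Sga3.H780.PointedProd.exists_point (Over.mk q)
  obtain ⟨e, he⟩ := K995.GenusZeroPt.exists_iso_P1 h.1 σ.left (Over.w σ)
  obtain ⟨φ, rfl⟩ : ∃ φ, t = Spec.map φ := ⟨_, (Spec.map_preimage t).symm⟩
  have h1 := CohqB.ProjBC.isPullback_pmap φ.hom 1
  refine ⟨Spec.map φ, e.hom ≫ CohqB.ProjBC.pmap φ.hom 1, Category.comp_id _, ?_, fun i => i.elim0⟩
  have h2 : IsPullback e.hom q (CohB1.ProjSpace.toSpec 1 Ω) (𝟙 _) :=
    IsPullback.of_horiz_isIso ⟨by rw [he, Category.comp_id]⟩
  have h3 := h2.paste_horiz h1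
  rwa [Category.id_comp] at h3

/-- Complete families of pointed curves of genus zero. -/
theorem atlas (k : Type u) [Field k] (n : ℕ) : Atlas (Spec (CommRingCat.of k)) 0 n := by
  have h : Atlas (Spec (CommRingCat.of k)) 0 0 :=
    ⟨_, _, 𝟙 _, CohB1.ProjSpace.toSpec 1 k, fun i : Fin 0 => i.elim0, fun i => i.elim0,
      ⟨K995.P1Curve.isCurveOfGenus k, fun i => i.elim0⟩, inferInstance, inferInstance, inferInstance, complete_P1 k⟩
  have := h.add n
  rwa [Nat.zero_add] at this

end K508.FibPow0
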