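import Groth.Agent.CurvSt.K508.ConnPts
import Groth.Agent.CurvSt.K508.FibPow0
import Groth.Agent.CurvSt.K896.IrrTop
import Groth.Agent.CurvSt.K310.ExistsCurve

/-!
# Connectedness of the stack of stable pointed curves: nodes L2 and L3 of the proof of S16728

`k` algebraically closed. Hypotheses: the stacks are algebraic and locally of finite type and the smooth curves are
dense.

* `preconnectedSpace_of_atlas` : `|Mbar_{g,n}|` is connected if there is an irreducible complete family of smooth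
  `n`-pointed curves of genus `g` (`FibPow.Atlas`).
* `preconnectedSpace_of_zero` : for `g ≥ 2`, if `Mbar_{g,0}` is smooth over `k` and `|Mbar_{g,0}|` is connected, then
  `|Mbar_{g,n}|` is connected.
-/

set_option autoImplicit false
set_option backward.isDefEq.respectTransparency false
set_option backward.isDefEq.respectTransparency.types false

universe u

open CategoryTheory CategoryTheory.Limits AlgebraicGeometry Opposite AlgSp CurvSt

namespace K508.ConnMbar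

open K901.OpenSub K896.StPts K508.SmLocus K508.ConnPts

/-- Sections of the base change of a pointed family. -/
theorem exists_pointing {S : Scheme.{u}} {n : ℕ} {A : PtFamObj S n} {r0 : PtFamObj S 0} (b : r0.base ⟶ A.base)
    (t : r0.C ⟶ A.C) (h : IsPullback t r0.f A.f b.left) :
    ∃ (z : Fin n → (r0.base.left ⟶ r0.C)) (hz : ∀ i, z i ≫ r0.f = 𝟙 _),
      Nonempty ((⟨r0.base, r0.C, r0.f, z, hz⟩ : PtFamObj S n) ⟶ A) :=
  ⟨fun i => h.lift (b.left ≫ A.sect i) (𝟙 _) (by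
    rw [Category.assoc, A.sect_f, Category.comp_id, Category.id_comp]), fun i => h.lift_snd _ _ _,
    ⟨⟨b, t, h, fun i => h.lift_fst _ _ _⟩⟩⟩

/-- The family of all `n`-tuples of distinct points on the members of a family of smooth curves. -/
theorem exists_fam {S : Scheme.{u}} {g : ℕ} (G : PtFamObj S 0) (hG : ModFun.IsCurveOfGenus g G.f) (n : ℕ) :
    ∃ (F : PtFamObj S n) (u : F.base ⟶ G.base) (c : F.C ⟶ G.C), IsSmoothPtdFam F.f F.sect g ∧
      IsPullback c F.f G.f u.left ∧ Smooth u.left ∧ Surjective u.left ∧ GeometricallyIrreducible u.left ∧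
      ∀ (r : PtFamObj S n) (_ : IsSmoothPtdFam r.f r.sect g) (b : r.base ⟶ G.base) (t : r.C ⟶ G.C),
        IsPullback t r.f G.f b.left → Nonempty (r ⟶ F) := by
  obtain ⟨U, u, C', c, f', σ, hσ, hP, hF, hu1, hu2, hu3, hu4, -, huniv⟩ := FibPow.exists_fibPow G.f g hG n
  refine ⟨⟨Over.mk (u ≫ G.base.hom), C', f', σ, hσ⟩, Over.homMk u rfl, c, hF, hP, hu1, hu3, hu4,
    fun r hr b t ht => ?_⟩
  obtain ⟨w, j', h1, h2, h3, h4⟩ := huniv.exists_hom hP hσ ht r.sect r.sect_f (fun i x => trivial) hr.2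
  exact ⟨⟨Over.homMk w (by
    change w ≫ u ≫ G.base.hom = r.base.hom
    rw [← Category.assoc, h1, Over.w]), j', h3, h4⟩⟩

/-- Points over algebraically closed fields lift along surjective morphisms locally of finite type. -/
theorem exists_lift_point {L : Type u} [Field L] [IsAlgClosed L] {V T : Scheme.{u}} (v : V ⟶ T) [LocallyOfFiniteType v]
    [Surjective v] (s : Spec (CommRingCat.of L) ⟶ T) : ∃ w : Spec (CommRingCat.of L) ⟶ V, w ≫ v = s := by
  have hJ : JacobsonSpace ↥(pullback v s) := LocallyOfFiniteType.jacobsonSpace (pullback.snd v s)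
  obtain ⟨z, -⟩ := (inferInstance : Surjective (pullback.snd v s)).surj (IsLocalRing.closedPoint L)
  obtain ⟨y, -, hy⟩ := nonempty_inter_closedPoints (Z := (Set.univ : Set ↥(pullback v s))) ⟨z, trivial⟩
    isOpen_univ.isLocallyClosed
  let σ := ((pointEquivClosedPoint (pullback.snd v s)).symm ⟨y, hy⟩).1
  have hσ : σ ≫ pullback.snd v s = 𝟙 _ := ((pointEquivClosedPoint (pullback.snd v s)).symm ⟨y, hy⟩).2
  refine ⟨σ ≫ pullback.fst v s, ?_⟩
  rw [Category.assoc, pullback.condition, ← Category.assoc, hσ, Category.id_comp]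

variable {k : Type u} [Field k] [IsAlgClosed k] {K : Precoverage Scheme.{u}} {g n : ℕ}

/-- **Node L2.** -/
theorem preconnectedSpace_of_atlas (hgn : 3 ≤ 2 * g + n) (hA : FibPow.Atlas (Spec (CommRingCat.of k)) g n)
    (hst : AlgSt.IsAlgStack K (Mbar (Spec (CommRingCat.of k)) g n))
    (hft : AlgSt.LocQ (LocP @LocallyOfFiniteType) (FibCat.toSelf (Mbar (Spec (CommRingCat.of k)) g n)))
    (hden : Dense (Set.range (AlgSt.Points.map (AlgSt.subIncl (Mbar (Spec (CommRingCat.of k)) g n)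
      (fun A => IsSmoothPtdFam A.obj.f A.obj.sect g))))) :
    PreconnectedSpace (AlgSt.Points (Mbar (Spec (CommRingCat.of k)) g n)) := by
  obtain ⟨T, C, b, f, σ, hσ, hf, -, -, hirr, hc⟩ := hA
  let F : (Mbar (Spec (CommRingCat.of k)) g n).obj :=
    ⟨⟨Over.mk b, C, f, σ, hσ⟩, K310.ExistsCurve.isStableFam_of_isSmoothPtdFam σ hσ hf hgn⟩
  have key : ∀ (a : (Mbar (Spec (CommRingCat.of k)) g n).obj)
      (_ : (Mbar (Spec (CommRingCat.of k)) g n).p.obj a = Over.mk (𝟙 _)),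
      Sm (Spec (CommRingCat.of k)) g n a → Nonempty (a ⟶ F) := by
    rintro ⟨⟨base, X, q, s, hs⟩, hst⟩ ha hSm
    change base = Over.mk (𝟙 _) at ha
    subst ha
    obtain ⟨v, j, h1, h2, h3⟩ := hc k (𝟙 _) X q s hs hSm
    exact ⟨ObjectProperty.homMk ⟨Over.homMk v h1, j, h2, h3⟩⟩
  refine preconnectedSpace_of_kpts_dense hst hft (openLocus _ g n) hden fun a ha b hb hQa hQb => ?_
  obtain ⟨φ⟩ := key a ha hQa
  obtain ⟨ψ⟩ := key b hb hQb
  have : PreconnectedSpace ↥((Mbar (Spec (CommRingCat.of k)) g n).p.obj F).left := inferInstanceAs (PreconnectedSpace T)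
  exact mem_connectedComponent_of_family hst F ⟨k, 𝟙 _, a, ha⟩ ⟨k, 𝟙 _, b, hb⟩ φ ψ

/-- Node L2 for `g = 0`. -/
theorem preconnectedSpace_genus_zero (hn : 3 ≤ n)
    (hst : AlgSt.IsAlgStack K (Mbar (Spec (CommRingCat.of k)) 0 n))
    (hft : AlgSt.LocQ (LocP @LocallyOfFiniteType) (FibCat.toSelf (Mbar (Spec (CommRingCat.of k)) 0 n)))
    (hden : Dense (Set.range (AlgSt.Points.map (AlgSt.subIncl (Mbar (Spec (CommRingCat.of k)) 0 n)
      (fun A => IsSmoothPtdFam A.obj.f A.obj.sect 0))))) :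
    PreconnectedSpace (AlgSt.Points (Mbar (Spec (CommRingCat.of k)) 0 n)) :=
  preconnectedSpace_of_atlas (by omega) (FibPow0.atlas k n) hst hft hden

/-- Node L2 for `g = 1`, from a complete family of elliptic curves. -/
theorem preconnectedSpace_genus_one (h11 : FibPow.Atlas (Spec (CommRingCat.of k)) 1 1) (hn : 1 ≤ n)
    (hst : AlgSt.IsAlgStack K (Mbar (Spec (CommRingCat.of k)) 1 n))
    (hft : AlgSt.LocQ (LocP @LocallyOfFiniteType) (FibCat.toSelf (Mbar (Spec (CommRingCat.of k)) 1 n)))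
    (hden : Dense (Set.range (AlgSt.Points.map (AlgSt.subIncl (Mbar (Spec (CommRingCat.of k)) 1 n)
      (fun A => IsSmoothPtdFam A.obj.f A.obj.sect 1))))) :
    PreconnectedSpace (AlgSt.Points (Mbar (Spec (CommRingCat.of k)) 1 n)) := by
  obtain ⟨m, rfl⟩ := Nat.exists_eq_add_of_le hn
  exact preconnectedSpace_of_atlas (by omega) (h11.add m) hst hft hden

/-- The open piece of a chart, as a family. -/
noncomputable abbrev piece {U : Over (Spec (CommRingCat.of k))}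
    (x : FibCat.overCat U ⥤ᵇ Mbar (Spec (CommRingCat.of k)) g 0) (N : U.left.Opens) :
    (Mbar (Spec (CommRingCat.of k)) g 0).obj :=
  x.obj (Over.mk (Over.homMk N.ι rfl : Over.mk (N.ι ≫ U.hom) ⟶ U))

omit [IsAlgClosed k] in
/-- A field-valued point of the chart in `N` is a point of the piece over `N`. -/
theorem nonempty_hom_piece {U : Over (Spec (CommRingCat.of k))}
    (x : FibCat.overCat U ⥤ᵇ Mbar (Spec (CommRingCat.of k)) g 0) (N : U.left.Opens) (t : U.left) (ht : t ∈ N) :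
    Nonempty (x.obj (Over.mk (Over.homMk (U.left.fromSpecResidueField t) rfl :
      Over.mk (U.left.fromSpecResidueField t ≫ U.hom) ⟶ U)) ⟶ piece x N) := by
  have hr : Set.range (U.left.fromSpecResidueField t) ⊆ Set.range N.ι := by
    rintro _ ⟨y, rfl⟩
    rw [Scheme.Opens.range_ι, Scheme.fromSpecResidueField_apply]
    exact ht
  let l := IsOpenImmersion.lift N.ι (U.left.fromSpecResidueField t) hr
  have hl : l ≫ N.ι = U.left.fromSpecResidueField t := IsOpenImmersion.lift_fac _ _ _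
  let l' : Over.mk (U.left.fromSpecResidueField t ≫ U.hom) ⟶ Over.mk (N.ι ≫ U.hom) :=
    Over.homMk l (by change l ≫ N.ι ≫ U.hom = _; rw [← Category.assoc, hl]; rfl)
  refine ⟨x.map (Over.homMk l' ?_)⟩
  apply Over.OverMorphism.ext
  exact hl

omit [IsAlgClosed k] in
/-- What is needed of one component. -/
theorem exists_comp (hg : 2 ≤ g) {U : Over (Spec (CommRingCat.of k))}
    (x : FibCat.overCat U ⥤ᵇ Mbar (Spec (CommRingCat.of k)) g 0)
    (hst0 : AlgSt.IsAlgStack K (Mbar (Spec (CommRingCat.of k)) g 0))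
    (hxs : AlgSt.RepByAlgSpWith IsSurjectiveMor x) (hU : Smooth U.hom)
    (a : (Mbar (Spec (CommRingCat.of k)) g n).obj)
    (ha : (Mbar (Spec (CommRingCat.of k)) g n).p.obj a = Over.mk (𝟙 _)) (hSm : Sm (Spec (CommRingCat.of k)) g n a) :
    ∃ (N : U.left.Opens) (F : (Mbar (Spec (CommRingCat.of k)) g n).obj) (u : F.obj.base ⟶ (piece x N).obj.base)
      (c : F.obj.C ⟶ (piece x N).obj.C), (N : Set U.left).Nonempty ∧
      PreconnectedSpace ↥((Mbar (Spec (CommRingCat.of k)) g n).p.obj F).left ∧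
      Sm (Spec (CommRingCat.of k)) g n F ∧ IsPullback c F.obj.f (piece x N).obj.f u.left ∧ Smooth u.left ∧
      Surjective u.left ∧
      (∀ (r : PtFamObj (Spec (CommRingCat.of k)) n) (_ : IsSmoothPtdFam r.f r.sect g)
        (b : r.base ⟶ (piece x N).obj.base) (t : r.C ⟶ (piece x N).obj.C),
        IsPullback t r.f (piece x N).obj.f b.left → Nonempty (r ⟶ F.obj)) ∧
      ∃ r : AlgSt.FPt (Mbar (Spec (CommRingCat.of k)) g n), Nonempty (r.obj ⟶ a) ∧ Nonempty (r.obj ⟶ F) := by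
  have hgn : 3 ≤ 2 * g + n := by omega
  have hLN : IsLocallyNoetherian U.left := LocallyOfFiniteType.isLocallyNoetherian U.hom
  obtain ⟨W, hW⟩ := (openLocus (Spec (CommRingCat.of k)) g 0).chart x
  obtain ⟨⟨base, X, q, s, hs⟩, hsta⟩ := a
  change base = Over.mk (𝟙 _) at ha
  subst ha
  let a0 : (Mbar (Spec (CommRingCat.of k)) g 0).obj :=
    ⟨⟨Over.mk (𝟙 _), X, q, fun i => i.elim0, fun i => i.elim0⟩,
      K310.ExistsCurve.isStableFam_of_isSmoothPtdFam _ _ ⟨hSm.1, fun i => i.elim0⟩ (by omega)⟩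
  have ha0 : Sm (Spec (CommRingCat.of k)) g 0 a0 := ⟨hSm.1, fun i => i.elim0⟩
  let p0 : AlgSt.FPt (Mbar (Spec (CommRingCat.of k)) g 0) := ⟨k, 𝟙 _, a0, rfl⟩
  obtain ⟨t, ht⟩ := K736.QC.surjective_ofChart hst0 hxs (AlgSt.Points.mk p0)
  obtain ⟨r0, α, β, -⟩ := (K735.Pts.mk_eq_mk_iff hst0.isStack.1).1 ht
  have htW : t ∈ (W : Set U.left) := by
    have h1 := of_mk_eq hst0.isStack.1 (openLocus (Spec (CommRingCat.of k)) g 0) ht ha0
    refine (hW (Over.mk (Over.homMk (U.left.fromSpecResidueField t) rfl :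
      Over.mk (U.left.fromSpecResidueField t ≫ U.hom) ⟶ U))).1 h1 ⟨IsLocalRing.closedPoint _, ?_⟩
    exact U.left.fromSpecResidueField_apply t _
  obtain ⟨N', hN'o, htN', hN'⟩ := K896.IrrTop.exists_irr_nhd (fun y => K896.IrrTop.isDomain_stalk_of_smooth U.hom y) t
  let N : U.left.Opens := ⟨N', hN'o⟩ ⊓ W
  have hN : IrreducibleSpace N := by
    have h1 : IsPreirreducible (N : Set U.left) := hN'.open_subset N.isOpen (fun y hy => hy.1)
    exact (isIrreducible_iff_irreducibleSpace).1 ⟨⟨t, htN', htW⟩, h1⟩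
  have hSmG : Sm (Spec (CommRingCat.of k)) g 0 (piece x N) := by
    refine (hW _).2 ?_
    rintro _ ⟨y, rfl⟩
    exact y.2.2
  obtain ⟨γ⟩ := nonempty_hom_piece x N t ⟨htN', htW⟩
  obtain ⟨F0, u, c, hF0, hP, hu1, hu2, hu3, huniv⟩ := exists_fam (piece x N).obj hSmG.1 n
  let F : (Mbar (Spec (CommRingCat.of k)) g n).obj :=
    ⟨F0, K310.ExistsCurve.isStableFam_of_isSmoothPtdFam F0.sect F0.sect_f hF0 hgn⟩
  have hGi : IrreducibleSpace ↥(piece x N).obj.base.left := by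
    have h1 : (piece x N).obj.base = Over.mk (N.ι ≫ U.hom) := x.w_obj _
    rw [h1]
    exact hN
  have hFi : IrreducibleSpace ↥F0.base.left := GeometricallyIrreducible.irreducibleSpace u.left u.left.isOpenMap
  obtain ⟨z, hz, ⟨ζ⟩⟩ := exists_pointing (A := (⟨Over.mk (𝟙 _), X, q, s, hs⟩ : PtFamObj (Spec (CommRingCat.of k)) n))
    (r0 := r0.obj.obj) β.hom.base β.hom.top β.hom.cart
  let ra : (Mbar (Spec (CommRingCat.of k)) g n).obj :=
    ⟨⟨r0.obj.obj.base, r0.obj.obj.C, r0.obj.obj.f, z, hz⟩, isStableFam_of_isPullback hz hsta ζ.cart ζ.w_sect⟩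
  let ra' : ra ⟶ ⟨⟨Over.mk (𝟙 _), X, q, s, hs⟩, hsta⟩ := ObjectProperty.homMk ζ
  have hra : Sm (Spec (CommRingCat.of k)) g n ra := (openLocus (Spec (CommRingCat.of k)) g n).stable ra' hSm
  obtain ⟨ξ⟩ := huniv ra.obj hra (α ≫ γ).hom.base (α ≫ γ).hom.top (α ≫ γ).hom.cart
  refine ⟨N, F, u, c, ⟨t, htN', htW⟩, inferInstanceAs (PreconnectedSpace ↥F0.base.left), hF0, hP, hu1, hu2, huniv,
    ⟨r0.K, r0.str, ra, r0.lies⟩, ⟨ra'⟩, ⟨ObjectProperty.homMk ξ⟩⟩

/-- **Node L3.** -/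
theorem preconnectedSpace_of_zero (hg : 2 ≤ g)
    (hst0 : AlgSt.IsAlgStack K (Mbar (Spec (CommRingCat.of k)) g 0))
    (hsm0 : AlgSt.LocQ (LocP @Smooth) (FibCat.toSelf (Mbar (Spec (CommRingCat.of k)) g 0)))
    (hc0 : PreconnectedSpace (AlgSt.Points (Mbar (Spec (CommRingCat.of k)) g 0)))
    (hst : AlgSt.IsAlgStack K (Mbar (Spec (CommRingCat.of k)) g n))
    (hft : AlgSt.LocQ (LocP @LocallyOfFiniteType) (FibCat.toSelf (Mbar (Spec (CommRingCat.of k)) g n)))
    (hden : Dense (Set.range (AlgSt.Points.map (AlgSt.subIncl (Mbar (Spec (CommRingCat.of k)) g n)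
      (fun A => IsSmoothPtdFam A.obj.f A.obj.sect g))))) :
    PreconnectedSpace (AlgSt.Points (Mbar (Spec (CommRingCat.of k)) g n)) := by
  obtain ⟨U, x, hx, hxs, hU⟩ := K896.IrrTop.exists_atlas_smooth hsm0
  have hpre : PreirreducibleSpace (AlgSt.Points (Mbar (Spec (CommRingCat.of k)) g 0)) :=
    K896.IrrTop.preirreducibleSpace_of (K896.IrrTop.isOpen_closure_points hst0 hsm0)
  refine preconnectedSpace_of_kpts_dense hst hft (openLocus _ g n) hden fun a ha b hb hQa hQb => ?_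
  obtain ⟨Na, Fa, ua, ca, hNa, hFa, hSa, hPa, hsa, hsua, huna, ra, ⟨α1⟩, ⟨α2⟩⟩ := exists_comp hg x hst0 hxs hU a ha hQa
  obtain ⟨Nb, Fb, ub, cb, hNb, hFb, hSb, hPb, hsb, hsub, hunb, rb, ⟨β1⟩, ⟨β2⟩⟩ := exists_comp hg x hst0 hxs hU b hb hQb
  -- the images of the two pieces meet
  have ho := K736.QC.isOpenMap_ofChart hst0 hx
  obtain ⟨v, -, ⟨t1, ht1, ht1v⟩, ⟨t2, ht2, ht2v⟩⟩ := hpre.1 _ _ (ho _ Na.isOpen) (ho _ Nb.isOpen)
    (by simpa using hNa) (by simpa using hNb)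
  obtain ⟨r0, δ1, δ2, -⟩ := (K735.Pts.mk_eq_mk_iff hst0.isStack.1).1 (ht1v.trans ht2v.symm)
  obtain ⟨γ1⟩ := nonempty_hom_piece x Na t1 ht1
  obtain ⟨γ2⟩ := nonempty_hom_piece x Nb t2 ht2
  -- pass to an algebraically closed field
  let L := AlgebraicClosure r0.K
  let e : Spec (CommRingCat.of L) ⟶ Spec (CommRingCat.of r0.K) := Spec.map (CommRingCat.ofHom (algebraMap r0.K L))
  obtain ⟨y, hy, φ, -⟩ := K735.Pts.exists_restrict hst0.isStack.1 r0 (e ≫ r0.str) (Over.homMk e rfl)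
  have ε1 : y ⟶ piece x Na := φ ≫ δ1 ≫ γ1
  have ε2 : y ⟶ piece x Nb := φ ≫ δ2 ≫ γ2
  obtain ⟨⟨base, Z, q, s0, hs0⟩, hsty⟩ := y
  change base = Over.mk (e ≫ r0.str) at hy
  subst hy
  obtain ⟨w, hw⟩ := exists_lift_point ua.left ε1.hom.base.left
  let j : Z ⟶ Fa.obj.C := hPa.lift ε1.hom.top (q ≫ w) (by
    rw [Category.assoc, hw]
    exact ε1.hom.cart.w)
  have hj1 : j ≫ ca = ε1.hom.top := hPa.lift_fst _ _ _
  have hj2 : j ≫ Fa.obj.f = q ≫ w := hPa.lift_snd _ _ _
  have hj : IsPullback j q Fa.obj.f w := by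
    refine IsPullback.of_right ?_ hj2 hPa
    rw [hj1, hw]
    exact ε1.hom.cart
  let w' : Over.mk (e ≫ r0.str) ⟶ Fa.obj.base := Over.homMk w (by
    rw [← Over.w ua, ← Category.assoc, hw]
    exact Over.w ε1.hom.base)
  obtain ⟨z, hz, ⟨ζ⟩⟩ := exists_pointing (A := Fa.obj)
    (r0 := (⟨Over.mk (e ≫ r0.str), Z, q, s0, hs0⟩ : PtFamObj (Spec (CommRingCat.of k)) 0)) w' j hj
  let r : (Mbar (Spec (CommRingCat.of k)) g n).obj :=
    ⟨⟨Over.mk (e ≫ r0.str), Z, q, z, hz⟩, isStableFam_of_isPullback hz Fa.property ζ.cart ζ.w_sect⟩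
  let κa : r ⟶ Fa := ObjectProperty.homMk ζ
  have hr : Sm (Spec (CommRingCat.of k)) g n r := (openLocus (Spec (CommRingCat.of k)) g n).stable κa hSa
  obtain ⟨ξ⟩ := hunb r.obj hr ε2.hom.base ε2.hom.top ε2.hom.cart
  let κb : r ⟶ Fb := ObjectProperty.homMk ξ
  let pr : AlgSt.FPt (Mbar (Spec (CommRingCat.of k)) g n) := ⟨L, e ≫ r0.str, r, rfl⟩
  have h1 := mem_connectedComponent_of_family hst Fa ra pr α2 κa
  have h2 := mem_connectedComponent_of_family hst Fb rb pr β2 κb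
  have h3 : AlgSt.Points.mk ra = kpt a ha := K735.Pts.mk_eq_of_hom (q := ⟨k, 𝟙 _, a, ha⟩) α1
  have h4 : AlgSt.Points.mk rb = kpt b hb := K735.Pts.mk_eq_of_hom (q := ⟨k, 𝟙 _, b, hb⟩) β1
  rw [h3] at h1
  rw [h4] at h2
  rw [connectedComponent_eq h1, ← connectedComponent_eq h2]
  exact mem_connectedComponent

end K508.ConnMbar
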