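import Groth.Agent.CurvSt.K508.SepFinal
import Groth.Agent.CurvSt.K742.Psr
import Groth.Agent.CurvSt.K744.DensFinal
import Groth.Agent.CurvSt.K169.SRGen
import Groth.Agent.CurvSt.K169.UCFinal
import Groth.Agent.CurvSt.K898.QCAny
import Groth.Agent.CurvSt.K310.ExistsCurve
import Groth.Agent.S2226

/-!
# Properness of the stack of stable pointed curves (S16726, S16745, S16746) from separatedness of `Mbar S g 0` and the
stable contraction theorem
-/

set_option autoImplicit false
set_option backward.isDefEq.respectTransparency false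
set_option backward.isDefEq.respectTransparency.types false

universe u

open CategoryTheory CategoryTheory.Limits AlgebraicGeometry Opposite CurvSt

namespace K508.MbarProper

/-- Pointed stable models from stable contraction. -/
theorem stModel (h01 : K742.Psr.S17201Stmt.{u}) {g n : ℕ} (h : 3 ≤ 2 * g + n) : K169.SRGen.StModel.{u} g n := by
  intro R _ _ _ C f hC h0 hss hg x hx hinj
  exact K742.Psr.exists_stable (fun R => Groth.Agent.S2226.result R) h01 f hC h0 hss hg x hx hinj h

theorem srsm (h01 : K742.Psr.S17201Stmt.{u}) {g n : ℕ} (h : 3 ≤ 2 * g + n) : K169.PFMbar.SRsm.{u} g n :=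
  K169.SRGen.srsm_of_stModel (stModel h01 h)

/-- S16726 from separatedness for `n = 0` and stable contraction. -/
theorem main16726 (h0 : K508.SepFinal.SepZero.{u}) (h01 : K742.Psr.S17201Stmt.{u}) (S : Scheme.{u}) (g n : ℕ)
    (h : 3 ≤ 2 * g + n) :
    AlgSt.IsAlgStack Scheme.etalePrecoverage (CurvSt.Mbar S g n) ∧
      AlgSt.IsSeparatedOver (CurvSt.Mbar S g n) ∧
      AlgSt.LocQ (AlgSp.LocP @LocallyOfFiniteType) (FibCat.toSelf (CurvSt.Mbar S g n)) ∧
      AlgSt.IsQuasiCompactMor Scheme.etalePrecoverage (FibCat.toSelf (CurvSt.Mbar S g n)) ∧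
      AlgSt.IsUnivClosed Scheme.etalePrecoverage (FibCat.toSelf (CurvSt.Mbar S g n)) ∧
      ∀ (Ω : Type u) [Field Ω] [IsAlgClosed Ω] (t : Spec (CommRingCat.of Ω) ⟶ S),
        Nonempty ((CurvSt.Mbar S g n).p.Fiber (Over.mk t)) := by
  obtain ⟨h1, h2, h3, h4, h5⟩ := K169.UCFinal.main h (K508.SepFinal.isSeparatedOver h0 _ h)
    (K744.DensFinal.dense_sm _ h) (srsm h01 h) S
  refine ⟨K316.MbarAlg.isAlgStack_mbar_etale S h, K508.SepFinal.isSeparatedOver h0 S h, h2,
    K898.QCAny.isQuasiCompactMor_etale h3, h5, fun _ _ _ t => ?_⟩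
  exact K310.ExistsCurve.nonempty_Mbar_fiber t g n h

/-- S16745 from separatedness over locally Noetherian bases. -/
theorem main16745 (h0 : K508.SepFinal.SepZero.{u}) (S : Scheme.{u}) (g : ℕ) (hg : 2 ≤ g) :
    AlgSt.IsAlgStack Scheme.fppfPrecoverage (CurvSt.Mbar S g 0) ∧ AlgSt.IsSeparatedOver (CurvSt.Mbar S g 0) ∧
      ∀ (Ω : Type u) [Field Ω] [IsAlgClosed Ω] (t : Spec (CommRingCat.of Ω) ⟶ S),
        Nonempty ((CurvSt.Mbar S g 0).p.Fiber (Over.mk t)) :=
  ⟨K316.MbarAlg.isAlgStack_mbar S (by omega), K508.SepFinal.isSeparatedOver h0 S (by omega),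
    fun _ _ _ t => K310.ExistsCurve.nonempty_Mbar_fiber t g 0 (by omega)⟩

end K508.MbarProper
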