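import Groth.Agent.CurvSt.K508.CoarseProper
import Groth.Agent.S16692
import Groth.Agent.S16696
import Groth.Agent.S16703
import Groth.Agent.S16822
import Groth.Agent.S10104
import Groth.Prelude.Def_StCurv

/-!
# S16727 from S16723 and S16726 (helper508)
-/

set_option autoImplicit false

universe u

open CategoryTheory AlgebraicGeometry

namespace K508.CoarseP

theorem boot2 (S : Scheme.{u}) : K747.EtFppf.Boot2 S := fun F U p hp => Groth.Agent.S10104.result S F U p hp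

/-- The coarse moduli space of a Deligne-Mumford stack proper over a locally Noetherian scheme. -/
theorem exists_proper_coarse_of_isDM {S : Scheme.{u}} [IsLocallyNoetherian S] {𝒳 : AlgSt.Cat S}
    (hDM : AlgSt.IsDM Scheme.etalePrecoverage 𝒳)
    (hsep : AlgSt.IsSeparatedOver 𝒳) (hft : AlgSt.LocQ (AlgSp.LocP @LocallyOfFiniteType) (FibCat.toSelf 𝒳))
    (hqc : AlgSt.IsQuasiCompactMor Scheme.etalePrecoverage (FibCat.toSelf 𝒳))
    (huc : AlgSt.IsUnivClosed Scheme.etalePrecoverage (FibCat.toSelf 𝒳)) :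
    ∃ (M : AlgSp.Sp S) (π : 𝒳 ⥤ᵇ AlgSt.ofSp M), AlgSt.IsCoarseModuli π ∧
      ∀ s : M ⟶ (AlgSp.yon S).obj (Over.mk (𝟙 S)), AlgSp.IsProperMor s :=
  exists_proper_coarse (boot2 S) (fun 𝒳 a b => Groth.Agent.S16692.result S 𝒳 a b)
    (fun 𝒳 => Groth.Agent.S16703.result S 𝒳) (fun 𝒳 𝒳' => Groth.Agent.S16696.result S 𝒳 𝒳') hDM.1
    ((Groth.Agent.S16822.result 𝒳 hDM.1).1 hDM) hsep hft hqc huc

/-- S16727 from the statements of S16723 and S16726. -/
theorem main16727 (S : Scheme.{u}) [IsLocallyNoetherian S] (g n : ℕ)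
    (h23 : AlgSt.IsDM Scheme.etalePrecoverage (CurvSt.Mbar S g n) ∧
      ∀ (Ω : Type u) [Field Ω] [IsAlgClosed Ω] (t : Spec (CommRingCat.of Ω) ⟶ S),
        Nonempty ((CurvSt.Mbar S g n).p.Fiber (Over.mk t)))
    (h26 : AlgSt.IsAlgStack Scheme.etalePrecoverage (CurvSt.Mbar S g n) ∧
      AlgSt.IsSeparatedOver (CurvSt.Mbar S g n) ∧
      AlgSt.LocQ (AlgSp.LocP @LocallyOfFiniteType) (FibCat.toSelf (CurvSt.Mbar S g n)) ∧
      AlgSt.IsQuasiCompactMor Scheme.etalePrecoverage (FibCat.toSelf (CurvSt.Mbar S g n)) ∧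
      AlgSt.IsUnivClosed Scheme.etalePrecoverage (FibCat.toSelf (CurvSt.Mbar S g n)) ∧
      ∀ (Ω : Type u) [Field Ω] [IsAlgClosed Ω] (t : Spec (CommRingCat.of Ω) ⟶ S),
        Nonempty ((CurvSt.Mbar S g n).p.Fiber (Over.mk t))) :
    (∃ (M : AlgSp.Sp S) (π : CurvSt.Mbar S g n ⥤ᵇ AlgSt.ofSp M), AlgSt.IsCoarseModuli π ∧
        ∀ s : M ⟶ (AlgSp.yon S).obj (Over.mk (𝟙 S)), AlgSp.IsProperMor s) ∧
      ∀ (Ω : Type u) [Field Ω] [IsAlgClosed Ω] (t : Spec (CommRingCat.of Ω) ⟶ S),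
        Nonempty ((CurvSt.Mbar S g n).p.Fiber (Over.mk t)) :=
  ⟨exists_proper_coarse_of_isDM h23.1 h26.2.1 h26.2.2.1 h26.2.2.2.1 h26.2.2.2.2.1, h23.2⟩

end K508.CoarseP
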