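import Groth.Agent.CurvSt.K508.FibPow
import Groth.Agent.S2155
import Mathlib.AlgebraicGeometry.Morphisms.Smooth

/-!
# Adding a point to a stable family of curves

For a stable `n`-pointed family `f : C ⟶ T` of genus `g` and the open `W` of `C` of the points at which `f` is smooth
and which do not lie on the sections: the family over `W` with one more section is stable.
-/

set_option autoImplicit false

universe u

open CategoryTheory CategoryTheory.Limits AlgebraicGeometry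

namespace K508.StabPow

open K508.FibPow Groth.Agent

theorem smooth_smoothLocus {X Y : Scheme.{u}} (f : X ⟶ Y) [LocallyOfFinitePresentation f] :
    Smooth (f.smoothLocus.ι ≫ f) := by
  rw [← Scheme.Hom.smoothLocus_eq_top_iff, ← Scheme.Hom.preimage_smoothLocus_eq]
  exact f.smoothLocus.ι_preimage_self

theorem mem_smoothLocus_of_smooth {X Y : Scheme.{u}} (f : X ⟶ Y) [LocallyOfFinitePresentation f] {U : X.Opens}
    {x : X} (hx : x ∈ U) (h : Smooth (U.ι ≫ f)) : x ∈ f.smoothLocus := by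
  have h1 := (Scheme.Hom.smoothLocus_eq_top_iff (f := U.ι ≫ f)).2 h
  rw [← Scheme.Hom.preimage_smoothLocus_eq] at h1
  have h2 : (⟨x, hx⟩ : (U : Scheme.{u})) ∈ U.ι ⁻¹ᵁ f.smoothLocus := by rw [h1]; trivial
  exact h2

/-- The point of the spectrum of a field. -/
def pt (Ω : Type u) [Field Ω] : ↥(Spec (CommRingCat.of Ω)) := IsLocalRing.closedPoint Ω

section step

variable {T C : Scheme.{u}} (f : C ⟶ T) {n : ℕ} (σ : Fin n → (T ⟶ C)) (hσ : ∀ i, σ i ≫ f = 𝟙 T) {g : ℕ} (W : C.Opens)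

theorem markedPt_castSucc {Ω : Type u} [Field Ω] {t : Spec (CommRingCat.of Ω) ⟶ W} {X : Scheme.{u}}
    {i : X ⟶ pullback f (W.ι ≫ f)} {q : X ⟶ Spec (CommRingCat.of Ω)} (hP : IsPullback i q (pullback.snd f (W.ι ≫ f)) t)
    (hP' : IsPullback (i ≫ pullback.fst f (W.ι ≫ f)) q f (t ≫ W.ι ≫ f)) (j : Fin n) :
    CurvSt.markedPt (sec f σ hσ W) (sec_snd f σ hσ W) hP j.castSucc = CurvSt.markedPt σ hσ hP' j := by
  have h : hP.lift (t ≫ sec f σ hσ W j.castSucc) (𝟙 _) (by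
      rw [Category.assoc, sec_snd, Category.comp_id, Category.id_comp]) =
      hP'.lift ((t ≫ W.ι ≫ f) ≫ σ j) (𝟙 _) (by rw [Category.assoc, hσ, Category.comp_id, Category.id_comp]) := by
    apply hP'.hom_ext
    · rw [hP'.lift_fst, ← Category.assoc, hP.lift_fst, Category.assoc, sec_castSucc_fst]
      simp only [Category.assoc]
    · rw [hP'.lift_snd, hP.lift_snd]
  exact congrArg (fun z => z.base (IsLocalRing.closedPoint Ω)) h

theorem markedPt_last {Ω : Type u} [Field Ω] {t : Spec (CommRingCat.of Ω) ⟶ W} {X : Scheme.{u}}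
    {i : X ⟶ pullback f (W.ι ≫ f)} {q : X ⟶ Spec (CommRingCat.of Ω)} (hP : IsPullback i q (pullback.snd f (W.ι ≫ f)) t) :
    (i ≫ pullback.fst f (W.ι ≫ f)) (CurvSt.markedPt (sec f σ hσ W) (sec_snd f σ hσ W) hP (Fin.last n)) =
      W.ι (t (pt Ω)) := by
  have h : hP.lift (t ≫ sec f σ hσ W (Fin.last n)) (𝟙 _) (by
      rw [Category.assoc, sec_snd, Category.comp_id, Category.id_comp]) ≫ i ≫ pullback.fst f (W.ι ≫ f) = t ≫ W.ι := by
    rw [← Category.assoc, hP.lift_fst, Category.assoc, sec_last_fst]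
  have h1 := congrArg (fun z => z (pt Ω)) h
  simp only [Scheme.Hom.comp_apply] at h1
  exact (Scheme.Hom.comp_apply _ _ _).trans h1

theorem markedPt_old {Ω : Type u} [Field Ω] {t : Spec (CommRingCat.of Ω) ⟶ T} {X : Scheme.{u}}
    {i : X ⟶ C} {q : X ⟶ Spec (CommRingCat.of Ω)} (hP : IsPullback i q f t) (j : Fin n) :
    i (CurvSt.markedPt σ hσ hP j) ∈ Set.range (σ j) := by
  refine ⟨t (pt Ω), ?_⟩
  have h : hP.lift (t ≫ σ j) (𝟙 _) (by rw [Category.assoc, hσ, Category.comp_id, Category.id_comp]) ≫ i = t ≫ σ j :=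
    hP.lift_fst _ _ _
  have h1 := congrArg (fun z => z (pt Ω)) h
  simp only [Scheme.Hom.comp_apply] at h1
  exact h1.symm

theorem isClosed_markedPt {Ω : Type u} [Field Ω] {t : Spec (CommRingCat.of Ω) ⟶ T} {X : Scheme.{u}}
    {i : X ⟶ C} {q : X ⟶ Spec (CommRingCat.of Ω)} [IsSeparated q] (hP : IsPullback i q f t) (j : Fin n) :
    IsClosed ({CurvSt.markedPt σ hσ hP j} : Set X) := by
  let s := hP.lift (t ≫ σ j) (𝟙 _) (by rw [Category.assoc, hσ, Category.comp_id, Category.id_comp])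
  have h1 : s ≫ q = 𝟙 _ := hP.lift_snd _ _ _
  have h2 := isClosed_range s h1
  have h3 : Set.range s = {CurvSt.markedPt σ hσ hP j} := by
    ext x
    constructor
    · rintro ⟨y, rfl⟩
      rw [Subsingleton.elim y (IsLocalRing.closedPoint Ω)]
      rfl
    · rintro rfl
      exact ⟨IsLocalRing.closedPoint Ω, rfl⟩
  rwa [h3] at h2

/-- The stable family with one more point. -/
theorem isStableFam_step [LocallyOfFinitePresentation f] (h : CurvSt.IsStableFam f σ hσ g)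
    (hW : ∀ x ∈ W, x ∈ f.smoothLocus ∧ ∀ i, x ∉ Set.range (σ i)) :
    CurvSt.IsStableFam (pullback.snd f (W.ι ≫ f)) (sec f σ hσ W) (sec_snd f σ hσ W) g := by
  obtain ⟨h1, h2, h3, h4⟩ := h
  refine ⟨inferInstance, inferInstance, inferInstance, fun Ω _ _ t X i q hP => ?_⟩
  have hP' := hP.paste_horiz (IsPullback.of_hasPullback f (W.ι ≫ f))
  obtain ⟨k1, k2, k3, k4, k5, k6, k7, k8⟩ := h4 Ω _ X _ q hP'
  have hlfp : LocallyOfFinitePresentation q := MorphismProperty.of_isPullback hP' ‹_›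
  have hlast : ∀ j : Fin n, CurvSt.markedPt (sec f σ hσ W) (sec_snd f σ hσ W) hP (Fin.last n) ≠
      CurvSt.markedPt σ hσ hP' j := by
    intro j hj
    have h5 := markedPt_last f σ hσ W hP
    rw [hj] at h5
    have h6 := markedPt_old f σ hσ hP' j
    rw [h5] at h6
    exact (hW _ (t (pt Ω)).2).2 j h6
  refine ⟨k1, k2, k3, k4, ?_, ?_, ?_, by omega⟩
  · intro a b hab
    induction a using Fin.lastCases with
    | last =>
      induction b using Fin.lastCases with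
      | last => rfl
      | cast b =>
        rw [markedPt_castSucc f σ hσ W hP hP'] at hab
        exact absurd hab (hlast b)
    | cast a =>
      induction b using Fin.lastCases with
      | last =>
        rw [markedPt_castSucc f σ hσ W hP hP'] at hab
        exact absurd hab.symm (hlast a)
      | cast b =>
        rw [markedPt_castSucc f σ hσ W hP hP', markedPt_castSucc f σ hσ W hP hP'] at hab
        rw [k5 hab]
  · intro a
    refine ⟨isClosed_markedPt _ _ _ hP a, ?_⟩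
    induction a using Fin.lastCases with
    | last =>
      refine ⟨q.smoothLocus, ?_, smooth_smoothLocus q⟩
      rw [S2155.result f _ q _ hP' (Or.inl inferInstance)]
      change (i ≫ pullback.fst f (W.ι ≫ f)) _ ∈ f.smoothLocus
      rw [markedPt_last f σ hσ W hP]
      exact (hW _ (t (pt Ω)).2).1
    | cast a =>
      rw [markedPt_castSucc f σ hσ W hP hP']
      exact (k6 a).2
  · intro E hE
    refine (k7 E hE).trans (add_le_add le_rfl ?_)
    have h5 : Nat.card {i : Fin n // CurvSt.markedPt σ hσ hP' i ∈ E} ≤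
        Nat.card {i : Fin (n + 1) // CurvSt.markedPt (sec f σ hσ W) (sec_snd f σ hσ W) hP i ∈ E} :=
      Nat.card_le_card_of_injective
        (fun a => ⟨a.1.castSucc, by rw [markedPt_castSucc f σ hσ W hP hP']; exact a.2⟩)
        (fun a b hab => Subtype.ext (Fin.castSucc_injective n (congrArg Subtype.val hab)))
    exact_mod_cast h5

/-- The classifying map for the stable family with one more point. -/
theorem exists_hom_step [LocallyOfFinitePresentation f] [Flat f]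
    (hW : ∀ x : C, x ∈ W ↔ x ∈ f.smoothLocus ∧ ∀ i, x ∉ Set.range (σ i)) {V X : Scheme.{u}} {v : V ⟶ T} {j : X ⟶ C}
    {q : X ⟶ V} [LocallyOfFinitePresentation q] (hq : IsPullback j q f v) (s : Fin (n + 1) → (V ⟶ X))
    (hs : ∀ i, s i ≫ q = 𝟙 V) (hsj : ∀ i : Fin n, s i.castSucc ≫ j = v ≫ σ i)
    (hdis : ∀ i i', i ≠ i' → ∀ x : V, s i x ≠ s i' x) (hsm : ∀ x : V, s (Fin.last n) x ∈ q.smoothLocus) :
    ∃ (w : V ⟶ W) (j' : X ⟶ pullback f (W.ι ≫ f)), w ≫ W.ι ≫ f = v ∧ j' ≫ pullback.fst _ _ = j ∧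
      IsPullback j' q (pullback.snd f (W.ι ≫ f)) w ∧ ∀ i, s i ≫ j' = w ≫ sec f σ hσ W i := by
  let y : V ⟶ C := s (Fin.last n) ≫ j
  have hy2 : y ≫ f = v := by rw [Category.assoc, hq.w, reassoc_of% (hs (Fin.last n))]
  have hyW : ∀ x : V, y x ∈ W := by
    intro x
    rw [hW]
    constructor
    · have h1 := hsm x
      rw [S2155.result f _ q _ hq (Or.inl inferInstance)] at h1
      exact h1
    · intro i hi
      have hsq := isPullback_section hq (σ i) (hσ i) (s i.castSucc) (hs _) (hsj i)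
      rw [Scheme.Hom.comp_apply] at hi
      obtain ⟨z, hz⟩ := mem_range_of_isPullback hsq hi
      have h1 : z = x := by
        have h2 := congrArg q hz
        rw [← Scheme.Hom.comp_apply, ← Scheme.Hom.comp_apply, hs, hs] at h2
        exact h2
      rw [h1] at hz
      exact hdis _ _ (Fin.castSucc_lt_last i).ne x hz
  let w : V ⟶ W := IsOpenImmersion.lift W.ι y (by
    rintro _ ⟨x, rfl⟩
    rw [Scheme.Opens.range_ι]
    exact hyW x)
  have hw : w ≫ W.ι = y := IsOpenImmersion.lift_fac _ _ _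
  have hwv : w ≫ W.ι ≫ f = v := by rw [reassoc_of% hw, hy2]
  let j' : X ⟶ pullback f (W.ι ≫ f) := pullback.lift j (q ≫ w) (by rw [hq.w, Category.assoc, hwv])
  have hj1 : j' ≫ pullback.fst _ _ = j := pullback.lift_fst _ _ _
  have hj2 : j' ≫ pullback.snd _ _ = q ≫ w := pullback.lift_snd _ _ _
  refine ⟨w, j', hwv, hj1, ?_, fun i => ?_⟩
  · refine IsPullback.of_right ?_ hj2 (IsPullback.of_hasPullback f (W.ι ≫ f))
    rw [hj1, hwv]
    exact hq
  · apply pullback.hom_ext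
    · rw [Category.assoc, hj1, Category.assoc]
      induction i using Fin.lastCases with
      | last => rw [sec_last_fst, hw]
      | cast i => rw [sec_castSucc_fst, hsj, reassoc_of% hwv]
    · rw [Category.assoc, hj2, reassoc_of% (hs i), Category.assoc, sec_snd, Category.comp_id]

end step

/-! ### Families with smooth generic member -/

/-- The members of the family over a nonempty open of the base are smooth curves. -/
def GenSmooth {C T : Scheme.{u}} (f : C ⟶ T) (g : ℕ) : Prop :=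
  ∃ U : T.Opens, (U : Set T).Nonempty ∧ ModFun.IsCurveOfGenus g (f ∣_ U)

section gen

variable {T C : Scheme.{u}} (f : C ⟶ T) {n : ℕ} (σ : Fin n → (T ⟶ C)) (hσ : ∀ i, σ i ≫ f = 𝟙 T) {g : ℕ} (W : C.Opens)

include hσ in
theorem exists_mem [LocallyOfFinitePresentation f] {U : T.Opens} (hU : ModFun.IsCurveOfGenus g (f ∣_ U)) (x : T) (hx : x ∈ U) :
    ∃ y : C, f y = x ∧ y ∈ f.smoothLocus ∧ ∀ i, y ∉ Set.range (σ i) := by
  have hP := isPullback_morphismRestrict f U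
  let s : Fin n → ((U : Scheme.{u}) ⟶ (f ⁻¹ᵁ U : Scheme.{u})) := fun i =>
    hP.flip.lift (U.ι ≫ σ i) (𝟙 _) (by rw [Category.assoc, hσ, Category.comp_id, Category.id_comp])
  have hs1 : ∀ i, s i ≫ f ∣_ U = 𝟙 _ := fun i => hP.flip.lift_snd _ _ _
  have hs2 : ∀ i, s i ≫ (f ⁻¹ᵁ U).ι = U.ι ≫ σ i := fun i => hP.flip.lift_fst _ _ _
  obtain ⟨y, hy1, hy2⟩ := exists_not_mem hU s hs1 ⟨x, hx⟩
  refine ⟨(f ⁻¹ᵁ U).ι y, ?_, ?_, fun i hi => hy2 i ?_⟩
  · have h1 := congrArg (fun z => z y) hP.flip.w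
    simp only [Scheme.Hom.comp_apply] at h1
    rw [h1, hy1]
    rfl
  · have h1 : y ∈ (f ∣_ U).smoothLocus := by
      have := hU.1
      rw [(Scheme.Hom.smoothLocus_eq_top_iff (f := f ∣_ U)).2 inferInstance]
      trivial
    rw [S2155.result f U.ι (f ∣_ U) (f ⁻¹ᵁ U).ι hP.flip (Or.inr inferInstance)] at h1
    exact h1
  · exact mem_range_of_isPullback (isPullback_section hP.flip (σ i) (hσ i) (s i) (hs1 i) (hs2 i)) hi

include hσ in
/-- The base of the family with one more point is irreducible. -/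
theorem irreducibleSpace_step [Flat f] [LocallyOfFinitePresentation f] [IrreducibleSpace T] (hgen : GenSmooth f g)
    (hW : ∀ x : C, x ∈ W ↔ x ∈ f.smoothLocus ∧ ∀ i, x ∉ Set.range (σ i)) : IrreducibleSpace W := by
  obtain ⟨U, ⟨x₀, hx₀⟩, hU⟩ := hgen
  have hUs := hU.1
  have hUi := hU.2.2.1
  have h1 : IrreducibleSpace (U : Scheme.{u}) := by
    have : Nonempty (U : Scheme.{u}) := ⟨⟨x₀, hx₀⟩⟩
    exact U.ι.isOpenEmbedding.irreducibleSpace
  have h2 : IrreducibleSpace (f ⁻¹ᵁ U : Scheme.{u}) :=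
    GeometricallyIrreducible.irreducibleSpace (f ∣_ U) (f ∣_ U).isOpenMap
  have h3 : IsPreirreducible ((f ⁻¹ᵁ U : C.Opens) : Set C) := by
    have h4 := (PreirreducibleSpace.isPreirreducible_univ (X := (f ⁻¹ᵁ U : Scheme.{u}))).image (f ⁻¹ᵁ U).ι
      (f ⁻¹ᵁ U).ι.continuous.continuousOn
    rwa [Set.image_univ, Scheme.Opens.range_ι] at h4
  obtain ⟨y₀, hy₁, hy₂, hy₃⟩ := exists_mem f σ hσ hU x₀ hx₀
  have hy₀ : y₀ ∈ W := (hW y₀).2 ⟨hy₂, hy₃⟩
  have h5 : IsPreirreducible ((W : C.Opens) : Set C) := by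
    rintro O₁ O₂ hO₁ hO₂ ⟨a, haW, haO⟩ ⟨b, hbW, hbO⟩
    have key : ∀ (O : Set C), IsOpen O → (∃ a ∈ W, a ∈ O) → ((f ⁻¹ᵁ U : Set C) ∩ ((W : Set C) ∩ O)).Nonempty := by
      rintro O hO ⟨a, haW, haO⟩
      have h6 : IsOpen (f '' ((W : Set C) ∩ O)) := f.isOpenMap _ (W.isOpen.inter hO)
      obtain ⟨t, ht1, ht2⟩ := (PreirreducibleSpace.isPreirreducible_univ (X := T)) _ _ U.isOpen h6
        ⟨x₀, trivial, hx₀⟩ ⟨f a, trivial, a, ⟨haW, haO⟩, rfl⟩
      obtain ⟨ht3, c, hc, rfl⟩ := ht2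
      exact ⟨c, ht3, hc⟩
    obtain ⟨c, hc1, hc2, hc3⟩ := h3 _ _ (W.isOpen.inter hO₁) (W.isOpen.inter hO₂) (key O₁ hO₁ ⟨a, haW, haO⟩)
      (key O₂ hO₂ ⟨b, hbW, hbO⟩)
    exact ⟨c, hc2.1, hc2.2, hc3.2⟩
  have : IsIrreducible ((W : C.Opens) : Set C) := ⟨⟨y₀, hy₀⟩, h5⟩
  exact isIrreducible_iff_irreducibleSpace.1 this

include hσ in
/-- The generic member of the family with one more point is smooth. -/
theorem genSmooth_step [LocallyOfFinitePresentation f] (hgen : GenSmooth f g)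
    (hW : ∀ x : C, x ∈ W ↔ x ∈ f.smoothLocus ∧ ∀ i, x ∉ Set.range (σ i)) :
    GenSmooth (pullback.snd f (W.ι ≫ f)) g := by
  obtain ⟨U, ⟨x₀, hx₀⟩, hU⟩ := hgen
  obtain ⟨y₀, hy₁, hy₂, hy₃⟩ := exists_mem f σ hσ hU x₀ hx₀
  have hy₀ : y₀ ∈ W := (hW y₀).2 ⟨hy₂, hy₃⟩
  let D : (W : Scheme.{u}).Opens := (W.ι ≫ f) ⁻¹ᵁ U
  have hD : (⟨y₀, hy₀⟩ : (W : Scheme.{u})) ∈ D := by
    have : f y₀ ∈ U := by rw [hy₁]; exact hx₀
    exact this
  refine ⟨D, ⟨_, hD⟩, ?_⟩
  have hP₀ := (isPullback_morphismRestrict f U).flip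
  have hP₁ := ((isPullback_morphismRestrict (pullback.snd f (W.ι ≫ f)) D).flip).paste_horiz
    (IsPullback.of_hasPullback f (W.ι ≫ f))
  let r : (D : Scheme.{u}) ⟶ U := (W.ι ≫ f) ∣_ U
  have hr : r ≫ U.ι = D.ι ≫ W.ι ≫ f := morphismRestrict_ι (W.ι ≫ f) U
  let l := hP₀.lift (((pullback.snd f (W.ι ≫ f)) ⁻¹ᵁ D).ι ≫ pullback.fst f (W.ι ≫ f))
    ((pullback.snd f (W.ι ≫ f) ∣_ D) ≫ r) (by rw [hP₁.w, Category.assoc _ r, hr])
  have hl1 : l ≫ (f ⁻¹ᵁ U).ι = _ := hP₀.lift_fst _ _ _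
  have hl2 : l ≫ f ∣_ U = _ := hP₀.lift_snd _ _ _
  refine isCurveOfGenus_of_isPullback hU (c := l) (t := r) (IsPullback.of_right ?_ hl2 hP₀)
  rw [hl1, hr]
  exact hP₁

end gen

/-- The pointed curve `(X, s)` over `Ω` is a fibre of the family. -/
def Member {S T C : Scheme.{u}} (b : T ⟶ S) (f : C ⟶ T) {n : ℕ} (σ : Fin n → (T ⟶ C)) {Ω : Type u} [Field Ω]
    (t : Spec (CommRingCat.of Ω) ⟶ S) {X : Scheme.{u}} (q : X ⟶ Spec (CommRingCat.of Ω))
    (s : Fin n → (Spec (CommRingCat.of Ω) ⟶ X)) : Prop :=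
  ∃ (v : Spec (CommRingCat.of Ω) ⟶ T) (j : X ⟶ C), v ≫ b = t ∧ IsPullback j q f v ∧ ∀ i, s i ≫ j = v ≫ σ i

/-- A stable `n`-pointed family of genus `g` over an irreducible base of finite type over `S` with smooth generic
member. -/
structure IsGood {S T C : Scheme.{u}} (b : T ⟶ S) (f : C ⟶ T) {n : ℕ} (σ : Fin n → (T ⟶ C)) (hσ : ∀ i, σ i ≫ f = 𝟙 T)
    (g : ℕ) : Prop where
  lft : LocallyOfFiniteType b
  qc : QuasiCompact b
  irr : IrreducibleSpace T
  stable : CurvSt.IsStableFam f σ hσ g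
  gen : GenSmooth f g

/-- Adding one point. -/
theorem IsGood.exists_step {S T C : Scheme.{u}} [IsLocallyNoetherian S] {b : T ⟶ S} {f : C ⟶ T} {n : ℕ}
    {σ : Fin n → (T ⟶ C)} {hσ : ∀ i, σ i ≫ f = 𝟙 T} {g : ℕ} (h : IsGood b f σ hσ g) :
    ∃ (T' C' : Scheme.{u}) (b' : T' ⟶ S) (f' : C' ⟶ T') (σ' : Fin (n + 1) → (T' ⟶ C')) (hσ' : ∀ i, σ' i ≫ f' = 𝟙 T'),
      IsGood b' f' σ' hσ' g ∧
      ∀ (Ω : Type u) [Field Ω] (t : Spec (CommRingCat.of Ω) ⟶ S) (X : Scheme.{u}) (q : X ⟶ Spec (CommRingCat.of Ω))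
        [LocallyOfFinitePresentation q] (s : Fin (n + 1) → (Spec (CommRingCat.of Ω) ⟶ X)), (∀ i, s i ≫ q = 𝟙 _) →
        Member b f σ t q (fun i => s i.castSucc) → (∀ i i', i ≠ i' → s i (pt Ω) ≠ s i' (pt Ω)) →
        s (Fin.last n) (pt Ω) ∈ q.smoothLocus → Member b' f' σ' t q s := by
  obtain ⟨h1, h2, h3, h4, h5⟩ := h
  have k1 := h4.1
  have k2 := h4.2.1
  have k3 := h4.2.2.1
  let W : C.Opens := f.smoothLocus ⊓ compl σ hσ
  have hW : ∀ x : C, x ∈ W ↔ x ∈ f.smoothLocus ∧ ∀ i, x ∉ Set.range (σ i) := fun x => by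
    rw [← mem_compl (hσ := hσ)]
    rfl
  have i1 : IsLocallyNoetherian T := LocallyOfFiniteType.isLocallyNoetherian b
  have i2 : IsLocallyNoetherian C := LocallyOfFiniteType.isLocallyNoetherian f
  refine ⟨W, _, W.ι ≫ f ≫ b, pullback.snd f (W.ι ≫ f), sec f σ hσ W, sec_snd f σ hσ W,
    ⟨inferInstance, inferInstance, irreducibleSpace_step f σ hσ W h5 hW,
      isStableFam_step f σ hσ W h4 (fun x hx => (hW x).1 hx), genSmooth_step f σ hσ W h5 hW⟩, ?_⟩
  rintro Ω _ t X q _ s hs ⟨v, j, m1, m2, m3⟩ hdis hsm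
  obtain ⟨w, j', n1, -, n2, n3⟩ := exists_hom_step f σ hσ W hW m2 s hs m3
    (fun i i' hii x => by rw [Subsingleton.elim x (pt Ω)]; exact hdis i i' hii)
    (fun x => by rw [Subsingleton.elim x (pt Ω)]; exact hsm)
  exact ⟨w, j', by rw [← m1, ← n1]; simp only [Category.assoc], n2, n3⟩

/-- Adding `m` points. -/
theorem IsGood.exists_add {S T C : Scheme.{u}} [IsLocallyNoetherian S] {b : T ⟶ S} {f : C ⟶ T} {n : ℕ}
    {σ : Fin n → (T ⟶ C)} {hσ : ∀ i, σ i ≫ f = 𝟙 T} {g : ℕ} (h : IsGood b f σ hσ g) (m : ℕ) :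
    ∃ (T' C' : Scheme.{u}) (b' : T' ⟶ S) (f' : C' ⟶ T') (σ' : Fin (n + m) → (T' ⟶ C')) (hσ' : ∀ i, σ' i ≫ f' = 𝟙 T'),
      IsGood b' f' σ' hσ' g ∧
      ∀ (Ω : Type u) [Field Ω] (t : Spec (CommRingCat.of Ω) ⟶ S) (X : Scheme.{u}) (q : X ⟶ Spec (CommRingCat.of Ω))
        [LocallyOfFinitePresentation q] (s : Fin (n + m) → (Spec (CommRingCat.of Ω) ⟶ X)), (∀ i, s i ≫ q = 𝟙 _) →
        Member b f σ t q (fun i => s (i.castAdd m)) → (∀ i i', i ≠ i' → s i (pt Ω) ≠ s i' (pt Ω)) →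
        (∀ i, s i (pt Ω) ∈ q.smoothLocus) → Member b' f' σ' t q s := by
  induction m with
  | zero => exact ⟨T, C, b, f, σ, hσ, h, fun Ω _ t X q _ s _ hm _ _ => hm⟩
  | succ m ih =>
    obtain ⟨T₁, C₁, b₁, f₁, σ₁, hσ₁, h₁, H₁⟩ := ih
    obtain ⟨T₂, C₂, b₂, f₂, σ₂, hσ₂, h₂, H₂⟩ := h₁.exists_step
    refine ⟨T₂, C₂, b₂, f₂, σ₂, hσ₂, h₂, fun Ω _ t X q _ s hs hm hdis hsm => ?_⟩
    refine H₂ Ω t X q s hs ?_ hdis (hsm _)
    exact H₁ Ω t X q (fun i => s i.castSucc) (fun i => hs _) hm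
      (fun i i' hii => hdis _ _ fun h => hii (Fin.castSucc_injective _ h)) (fun i => hsm _)

end K508.StabPow
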