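import Groth.Agent.CurvSt.K508.UniqFam
import Groth.Agent.CurvSt.K896.GlueDef

/-!
# Uniqueness of limits of stable pointed curves by clutching

Gluing a stable `1`-pointed curve of genus one to the first mark reduces the uniqueness of limits of stable
`(n+1)`-pointed curves of genus `g` to the one of stable `n`-pointed curves of genus `g + 1`.
-/

set_option autoImplicit false

universe u

open CategoryTheory CategoryTheory.Limits AlgebraicGeometry Opposite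

namespace K508.Uniq

open K896.Glue

/-- A stable `1`-pointed curve of genus one over `T`. -/
structure Ell (T : Scheme.{u}) where
  E : Scheme.{u}
  e : E ⟶ T
  ε : Fin 1 → (T ⟶ E)
  hε : ∀ k, ε k ≫ e = 𝟙 T
  stable : CurvSt.IsStableFam e ε hε 1

/-- A clutching of the first mark of a pointed family with the mark of `F`. -/
structure Clutch {T X : Scheme.{u}} (F : Ell T) {g n : ℕ} (p : X ⟶ T) (σ : Fin (n + 1) → (T ⟶ X))
    (hσ : ∀ k, σ k ≫ p = 𝟙 T) where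
  X' : Scheme.{u}
  p' : X' ⟶ T
  ν₁ : X ⟶ X'
  ν₂ : F.E ⟶ X'
  h₁ : ν₁ ≫ p' = p
  h₂ : ν₂ ≫ p' = F.e
  univ : UnivPush p F.e p' (σ 0) (F.ε 0) ν₁ ν₂
  stable : CurvSt.IsStableFam p' (fun k : Fin n => σ k.succ ≫ ν₁)
    (fun k => (Category.assoc _ _ _).trans ((congrArg (fun z => σ k.succ ≫ z) h₁).trans (hσ k.succ))) (g + 1)

/-- Clutchings with curves of genus one exist over discrete valuation rings with algebraically closed residue field. -/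
def ClutchStmt (g n : ℕ) : Prop :=
  ∀ (R : Type u) [CommRing R] [IsDomain R] [IsDiscreteValuationRing R], IsAlgClosed (IsLocalRing.ResidueField R) →
    ∃ F : Ell (Spec (CommRingCat.of R)), ∀ {X : Scheme.{u}} (p : X ⟶ Spec (CommRingCat.of R))
      (σ : Fin (n + 1) → (Spec (CommRingCat.of R) ⟶ X)) (hσ : ∀ k, σ k ≫ p = 𝟙 _),
      CurvSt.IsStableFam p σ hσ g → Nonempty (Clutch (g := g) F p σ hσ)

theorem isPushout_of_univ {C₁ C₂ X T : Scheme.{u}} {f₁ : C₁ ⟶ T} {f₂ : C₂ ⟶ T} {f : X ⟶ T} {a : T ⟶ C₁}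
    {b : T ⟶ C₂} {ν₁ : C₁ ⟶ X} {ν₂ : C₂ ⟶ X} (h : UnivPush f₁ f₂ f a b ν₁ ν₂) (ha : a ≫ f₁ = 𝟙 T)
    (hb : b ≫ f₂ = 𝟙 T) (h1 : ν₁ ≫ f = f₁) (h2 : ν₂ ≫ f = f₂) : IsPushout a b ν₁ ν₂ :=
  h T C₁ C₂ X (𝟙 T) (𝟙 _) (𝟙 _) (𝟙 X) f₁ f₂ f a b ν₁ ν₂ (IsPullback.of_horiz_isIso ⟨by simp⟩)
    (IsPullback.of_horiz_isIso ⟨by simp⟩) (IsPullback.of_horiz_isIso ⟨by simp⟩)
    ha hb (by simp) (by simp) (by simp) (by simp) h1 h2

/-- The retraction of the clutching onto the first curve. -/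
theorem exists_retraction {C₁ C₂ X T : Scheme.{u}} {f₁ : C₁ ⟶ T} {f₂ : C₂ ⟶ T} {f : X ⟶ T} {a : T ⟶ C₁}
    {b : T ⟶ C₂} {ν₁ : C₁ ⟶ X} {ν₂ : C₂ ⟶ X} (h : IsPushout a b ν₁ ν₂) (ha : a ≫ f₁ = 𝟙 T)
    (hb : b ≫ f₂ = 𝟙 T) (h1 : ν₁ ≫ f = f₁) (h2 : ν₂ ≫ f = f₂) : ∃ r : X ⟶ C₁, ν₁ ≫ r = 𝟙 _ ∧ r ≫ f₁ = f := by
  refine ⟨h.desc (𝟙 _) (f₂ ≫ a) ?_, h.inl_desc _ _ _, ?_⟩
  · rw [Category.comp_id, ← Category.assoc, hb, Category.id_comp]
  · apply h.hom_ext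
    · rw [h.inl_desc_assoc, Category.id_comp, h1]
    · rw [h.inr_desc_assoc, Category.assoc, ha, Category.comp_id, h2]

section gen

variable {R : Type u} [CommRing R] [IsDomain R] {L : Type u} [Field L] [Algebra R L] [IsFractionRing R L]

/-- The generic fibre of a clutching. -/
theorem Clutch.exists_gen {F : Ell (Spec (CommRingCat.of R))} {g n : ℕ} {X : Scheme.{u}}
    {p : X ⟶ Spec (CommRingCat.of R)} {σ : Fin (n + 1) → (Spec (CommRingCat.of R) ⟶ X)} {hσ : ∀ k, σ k ≫ p = 𝟙 _}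
    (c : Clutch (g := g) F p σ hσ) {C EL : Scheme.{u}} {f : C ⟶ Spec (CommRingCat.of L)}
    {x : Fin (n + 1) → (Spec (CommRingCat.of L) ⟶ C)} (hx : ∀ k, x k ≫ f = 𝟙 _)
    {i : C ⟶ X} (hi : IsPullback i f p (gen R L)) (hxi : ∀ k, x k ≫ i = gen R L ≫ σ k)
    {d : EL ⟶ F.E} {δ : EL ⟶ Spec (CommRingCat.of L)} (hd : IsPullback d δ F.e (gen R L))
    {η : Spec (CommRingCat.of L) ⟶ EL} (hη : η ≫ δ = 𝟙 _) (hηd : η ≫ d = gen R L ≫ F.ε 0) :
    ∃ (C' : Scheme.{u}) (f' : C' ⟶ Spec (CommRingCat.of L)) (i' : C' ⟶ c.X') (κ₁ : C ⟶ C') (κ₂ : EL ⟶ C'),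
      IsPullback i' f' c.p' (gen R L) ∧ κ₁ ≫ f' = f ∧ κ₂ ≫ f' = δ ∧ κ₁ ≫ i' = i ≫ c.ν₁ ∧ κ₂ ≫ i' = d ≫ c.ν₂ ∧
      IsPushout (x 0) η κ₁ κ₂ := by
  have w₁ : (i ≫ c.ν₁) ≫ c.p' = f ≫ gen R L := by rw [Category.assoc, c.h₁, hi.w]
  have w₂ : (d ≫ c.ν₂) ≫ c.p' = δ ≫ gen R L := by rw [Category.assoc, c.h₂, hd.w]
  refine ⟨pullback c.p' (gen R L), pullback.snd _ _, pullback.fst _ _, pullback.lift (i ≫ c.ν₁) f w₁,
    pullback.lift (d ≫ c.ν₂) δ w₂, IsPullback.of_hasPullback _ _, pullback.lift_snd _ _ _, pullback.lift_snd _ _ _,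
    pullback.lift_fst _ _ _, pullback.lift_fst _ _ _, ?_⟩
  exact c.univ _ _ _ _ (gen R L) i d (pullback.fst _ _) f δ (pullback.snd _ _) (x 0) η _ _ hi hd
    (IsPullback.of_hasPullback _ _) (hx 0) hη (hxi 0) hηd (pullback.lift_fst _ _ _) (pullback.lift_fst _ _ _)
    (pullback.lift_snd _ _ _) (pullback.lift_snd _ _ _)

end gen

/-- **The clutching argument.** -/
theorem uniqFam_succ {g n : ℕ} (hG : ClutchStmt.{u} g n) (h : UniqFam.{u} (g + 1) n) : UniqFam.{u} g (n + 1) := by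
  intro R _ _ _ hR L _ _ _ X Y C p q σ hσ τ hτ hX hY f x hx i hi j hj hxi hxj
  obtain ⟨F, hF⟩ := hG R hR
  obtain ⟨a⟩ := hF p σ hσ hX
  obtain ⟨b⟩ := hF q τ hτ hY
  -- the generic fibre of `E`
  let η : Spec (CommRingCat.of L) ⟶ pullback F.e (gen R L) :=
    pullback.lift (gen R L ≫ F.ε 0) (𝟙 _) (by rw [Category.assoc, F.hε, Category.comp_id, Category.id_comp])
  have hη : η ≫ pullback.snd F.e (gen R L) = 𝟙 _ := pullback.lift_snd _ _ _
  have hηd : η ≫ pullback.fst F.e (gen R L) = gen R L ≫ F.ε 0 := pullback.lift_fst _ _ _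
  obtain ⟨C', f', i', κ₁, κ₂, s, k1, k2, k3, k4, P⟩ := a.exists_gen hx hi hxi (IsPullback.of_hasPullback _ _) hη hηd
  obtain ⟨C'', f'', j', l₁, l₂, s', m1, m2, m3, m4, P'⟩ :=
    b.exists_gen hx hj hxj (IsPullback.of_hasPullback _ _) hη hηd
  let θ : C' ≅ C'' := IsPushout.isoIsPushout _ _ P P'
  have t1 : κ₁ ≫ θ.hom = l₁ := IsPushout.inl_isoIsPushout_hom _ _ P P'
  have t2 : κ₂ ≫ θ.hom = l₂ := IsPushout.inr_isoIsPushout_hom _ _ P P'
  have t3 : θ.hom ≫ f'' = f' := by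
    apply P.hom_ext
    · rw [← Category.assoc, t1, m1, k1]
    · rw [← Category.assoc, t2, m2, k2]
  have s'' : IsPullback (θ.hom ≫ j') f' b.p' (gen R L) :=
    IsPullback.of_iso s' θ.symm (Iso.refl _) (Iso.refl _) (Iso.refl _) (by simp) (by simp [← t3]) (by simp) (by simp)
  obtain ⟨e', he1, he2⟩ := h R hR L a.p' b.p' (fun k => σ k.succ ≫ a.ν₁) _ (fun k => τ k.succ ≫ b.ν₁) _ a.stable
    b.stable f' (fun k => x k.succ ≫ κ₁) (fun k => by rw [Category.assoc, k1, hx]) i' s (θ.hom ≫ j') s''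
    (fun k => by rw [Category.assoc, k3, ← Category.assoc, hxi, Category.assoc])
    (fun k => by
      rw [Category.assoc, ← Category.assoc κ₁, t1, m3, ← Category.assoc, hxj, Category.assoc])
  -- the retractions
  obtain ⟨rX, x1, x2⟩ := exists_retraction (isPushout_of_univ a.univ (hσ 0) (F.hε 0) a.h₁ a.h₂) (hσ 0) (F.hε 0) a.h₁ a.h₂
  obtain ⟨rY, y1, y2⟩ := exists_retraction (isPushout_of_univ b.univ (hτ 0) (F.hε 0) b.h₁ b.h₂) (hτ 0) (F.hε 0) b.h₁ b.h₂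
  have hinv : e'.inv ≫ a.p' = b.p' := by rw [← he1, Iso.inv_hom_id_assoc]
  let u : X ⟶ Y := a.ν₁ ≫ e'.hom ≫ rY
  let v : Y ⟶ X := b.ν₁ ≫ e'.inv ≫ rX
  have hu : u ≫ q = p := by
    change (a.ν₁ ≫ e'.hom ≫ rY) ≫ q = p
    rw [Category.assoc, Category.assoc, y2, he1, a.h₁]
  have hv : v ≫ p = q := by
    change (b.ν₁ ≫ e'.inv ≫ rX) ≫ p = q
    rw [Category.assoc, Category.assoc, x2, hinv, b.h₁]
  have hiu : i ≫ u = j := by
    change i ≫ a.ν₁ ≫ e'.hom ≫ rY = j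
    rw [← Category.assoc, ← k3, Category.assoc, ← Category.assoc i', he2, ← Category.assoc, ← Category.assoc κ₁, t1, m3,
      Category.assoc, y1, Category.comp_id]
  have hjv : j ≫ v = i := by
    change j ≫ b.ν₁ ≫ e'.inv ≫ rX = i
    rw [← Category.assoc, ← m3, ← t1, Category.assoc κ₁, ← he2, Category.assoc, Category.assoc, Iso.hom_inv_id_assoc,
      ← Category.assoc, k3, Category.assoc, x1, Category.comp_id]
  have f1 : Flat p := hX.1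
  have f2 : Flat q := hY.1
  have p1 : IsProper p := hX.2.1
  have p2 : IsProper q := hY.2.1
  refine ⟨⟨u, v, ?_, ?_⟩, hu, hiu⟩
  · refine ext_gen R L hi p ?_ ?_
    · rw [Category.assoc, hv, hu, Category.id_comp]
    · rw [← Category.assoc, hiu, hjv, Category.comp_id]
  · refine ext_gen R L hj q ?_ ?_
    · rw [Category.assoc, hu, hv, Category.id_comp]
    · rw [← Category.assoc, hjv, hiu, Category.comp_id]

end K508.Uniq
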