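import Groth.Agent.CurvSt.K508.UniqClutch
import Groth.Agent.CurvSt.K253.WeiFam
import Groth.Agent.CurvSt.K310.ExistsCurve
import Mathlib.AlgebraicGeometry.EllipticCurve.ModelsWithJ

/-!
# A stable one-pointed curve of genus one over the spectrum of a local ring
-/

set_option autoImplicit false

universe u

open CategoryTheory CategoryTheory.Limits AlgebraicGeometry Opposite

namespace K508.Uniq

/-- Over a local ring there is a Weierstrass equation with invertible discriminant. -/
theorem exists_wei (A : Type u) [CommRing A] [IsLocalRing A] : ∃ W : WeierstrassCurve A, IsUnit W.Δ := by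
  have h : IsUnit (3 : A) ∨ IsUnit (-2 : A) := IsLocalRing.isUnit_or_isUnit_of_add_one (by norm_num)
  rcases h with h | h
  · refine ⟨WeierstrassCurve.ofJ0 A, ?_⟩
    rw [WeierstrassCurve.ofJ0_Δ]
    have : (-27 : A) = - (3 : A) ^ 3 := by norm_num
    rw [this]
    exact (h.pow 3).neg
  · refine ⟨WeierstrassCurve.ofJ1728 A, ?_⟩
    rw [WeierstrassCurve.ofJ1728_Δ]
    have : (-64 : A) = - (-2 : A) ^ 6 := by norm_num
    rw [this]
    exact (h.pow 6).neg

/-- A Weierstrass curve with invertible discriminant is a stable one-pointed curve of genus one. -/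
noncomputable def ofWei {A : Type u} [CommRing A] (W : WeierstrassCurve A) (hW : IsUnit W.Δ) :
    Ell (Spec (CommRingCat.of A)) where
  E := K820.EW.E W
  e := K820.EW.str W
  ε := fun _ => K820.EW.zero W
  hε := fun _ => K820.EW.zero_str W
  stable := K310.ExistsCurve.isStableFam_of_isSmoothPtdFam _ _
    ⟨K253.WeiFib.isCurveOfGenus W hW, fun i j h => absurd (Subsingleton.elim i j) h⟩ (by norm_num)

theorem exists_ell (A : Type u) [CommRing A] [IsLocalRing A] : Nonempty (Ell (Spec (CommRingCat.of A))) := by
  obtain ⟨W, hW⟩ := exists_wei A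
  exact ⟨ofWei W hW⟩

/-- Reduction of the uniqueness of limits to unpointed curves. -/
theorem uniqFam_of_zero (hG : ∀ g n : ℕ, 3 ≤ 2 * g + (n + 1) → ClutchStmt.{u} g n)
    (h0 : ∀ g : ℕ, 2 ≤ g → UniqFam.{u} g 0) (n : ℕ) : ∀ g : ℕ, 3 ≤ 2 * g + n → UniqFam.{u} g n := by
  induction n with
  | zero => exact fun g hg => h0 g (by omega)
  | succ n ih => exact fun g hg => uniqFam_succ (hG g n hg) (ih (g + 1) (by omega))

end K508.Uniq
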