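import Groth.Agent.AlgSt.K738.Sep2
import Groth.Agent.Dual.H358.Dom
import Groth.Prelude.Def_StCurv

/-!
# Uniqueness of limits of stable pointed curves, in terms of families

* `UniqFam g n` : over every discrete valuation ring with algebraically closed residue field, stable `n`-pointed
  families of genus `g` with the same generic fibre are isomorphic, compatibly;
* `uniqLim` : then `K738.Sep.UniqLim (CurvSt.Mbar S g n)` for every `S`;
* `uniqFam` : the converse over the bases `Spec R`.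
-/

set_option autoImplicit false
set_option backward.isDefEq.respectTransparency false
set_option backward.isDefEq.respectTransparency.types false

universe u

open CategoryTheory CategoryTheory.Limits AlgebraicGeometry Opposite

namespace K508.Uniq

open K604.DvrClosed

/-- the generic point of the spectrum of a discrete valuation ring -/
noncomputable abbrev gen (R L : Type u) [CommRing R] [Field L] [Algebra R L] :
    Spec (CommRingCat.of L) ⟶ Spec (CommRingCat.of R) := Spec.map (CommRingCat.ofHom (algebraMap R L))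

/-- Uniqueness of limits of stable pointed curves over discrete valuation rings with algebraically closed residue
field, in terms of families. -/
def UniqFam (g n : ℕ) : Prop :=
  ∀ (R : Type u) [CommRing R] [IsDomain R] [IsDiscreteValuationRing R], IsAlgClosed (IsLocalRing.ResidueField R) →
    ∀ (L : Type u) [Field L] [Algebra R L] [IsFractionRing R L] {X Y C : Scheme.{u}}
      (p : X ⟶ Spec (CommRingCat.of R)) (q : Y ⟶ Spec (CommRingCat.of R))
      (σ : Fin n → (Spec (CommRingCat.of R) ⟶ X)) (hσ : ∀ k, σ k ≫ p = 𝟙 _)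
      (τ : Fin n → (Spec (CommRingCat.of R) ⟶ Y)) (hτ : ∀ k, τ k ≫ q = 𝟙 _)
      (_ : CurvSt.IsStableFam p σ hσ g) (_ : CurvSt.IsStableFam q τ hτ g)
      (f : C ⟶ Spec (CommRingCat.of L)) (x : Fin n → (Spec (CommRingCat.of L) ⟶ C)) (_ : ∀ k, x k ≫ f = 𝟙 _)
      (i : C ⟶ X) (_ : IsPullback i f p (gen R L)) (j : C ⟶ Y) (_ : IsPullback j f q (gen R L))
      (_ : ∀ k, x k ≫ i = gen R L ≫ σ k) (_ : ∀ k, x k ≫ j = gen R L ≫ τ k),
      ∃ e : X ≅ Y, e.hom ≫ q = p ∧ i ≫ e.hom = j

section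

variable (R : Type u) [CommRing R] [IsDomain R] (L : Type u) [Field L] [Algebra R L] [IsFractionRing R L]

instance dominant_gen : IsSchemeTheoreticallyDominant (gen R L) := by
  have : IsDominant (gen R L) := by
    refine ⟨?_⟩
    refine PrimeSpectrum.denseRange_comap_iff_ker_le_nilRadical (algebraMap R L) |>.2 ?_
    rw [(RingHom.injective_iff_ker_eq_bot _).1 (IsFractionRing.injective R L)]
    exact bot_le
  exact IsSchemeTheoreticallyDominant.of_isDominant _

/-- Two morphisms from a flat family to a separated scheme agreeing on the generic fibre are equal. -/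
theorem ext_gen {X C Z : Scheme.{u}} {p : X ⟶ Spec (CommRingCat.of R)} [Flat p] {f : C ⟶ Spec (CommRingCat.of L)}
    {i : C ⟶ X} (hi : IsPullback i f p (gen R L)) (z : Z ⟶ Spec (CommRingCat.of R)) [IsSeparated z] {a b : X ⟶ Z}
    (h : a ≫ z = b ≫ z) (h' : i ≫ a = i ≫ b) : a = b := by
  have : IsSchemeTheoreticallyDominant i := IsSchemeTheoreticallyDominant.of_isPullback hi.flip
  exact Groth.Agent.Dual.H358.Dom.ext_of_dense i z h h'

/-- Sections of a separated scheme are determined generically. -/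
theorem section_ext {Z : Scheme.{u}} (z : Z ⟶ Spec (CommRingCat.of R)) [IsSeparated z]
    {a b : Spec (CommRingCat.of R) ⟶ Z} (h : a ≫ z = b ≫ z) (h' : gen R L ≫ a = gen R L ≫ b) : a = b :=
  Groth.Agent.Dual.H358.Dom.ext_of_dense (gen R L) z h h'

end

/-- **Uniqueness of limits in the moduli stack.** -/
theorem uniqLim {g n : ℕ} (h : UniqFam.{u} g n) (S : Scheme.{u}) : K738.Sep.UniqLim (CurvSt.Mbar S g n) := by
  intro R _ _ _ hR L _ _ _ a A₁ A₂ B r₁ r₂ h1 h2
  obtain ⟨⟨b₁, X, p, σ, hσ⟩, P₁⟩ := A₁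
  obtain ⟨⟨b₂, Y, q, τ, hτ⟩, P₂⟩ := A₂
  obtain ⟨⟨b, C, f, x, hx⟩, P⟩ := B
  have e1 : b₁ = Over.mk a := IsHomLift.codomain_eq (CurvSt.Mbar S g n).p (jj R L a) r₁
  have e2 : b₂ = Over.mk a := IsHomLift.codomain_eq (CurvSt.Mbar S g n).p (jj R L a) r₂
  have e3 : b = Over.mk (Spec.map (CommRingCat.ofHom (algebraMap R L)) ≫ a) :=
    IsHomLift.domain_eq (CurvSt.Mbar S g n).p (jj R L a) r₁
  subst e1 e2 e3
  have m1 : r₁.hom.base = jj R L a := by
    have h3 := IsHomLift.fac (CurvSt.Mbar S g n).p (jj R L a) r₁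
    rw [h3]
    exact ((Category.id_comp _).trans (Category.comp_id _)).symm
  have m2 : r₂.hom.base = jj R L a := by
    have h3 := IsHomLift.fac (CurvSt.Mbar S g n).p (jj R L a) r₂
    rw [h3]
    exact ((Category.id_comp _).trans (Category.comp_id _)).symm
  have q1 := r₁.hom.cart
  have q2 := r₂.hom.cart
  have s1 := r₁.hom.w_sect
  have s2 := r₂.hom.w_sect
  rw [m1] at q1 s1
  rw [m2] at q2 s2
  obtain ⟨e, he1, he2⟩ := h R hR L p q σ hσ τ hτ P₁ P₂ f x hx r₁.hom.top q1 r₂.hom.top q2 s1 s2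
  have hq : IsProper q := P₂.2.1
  have i1 : IsIso (𝟙 (Spec (CommRingCat.of R))) := IsIso.id _
  have sq : IsPullback e.hom p q (𝟙 (Spec (CommRingCat.of R))) :=
    IsPullback.of_horiz_isIso ⟨by rw [he1]; exact (Category.comp_id _).symm⟩
  have hs : ∀ k, σ k ≫ e.hom = τ k := by
    intro k
    refine section_ext R L q ?_ ?_
    · rw [Category.assoc, he1, hσ, hτ]
    · have h3 : gen R L ≫ σ k ≫ e.hom = x k ≫ r₁.hom.top ≫ e.hom := by
        rw [← Category.assoc, ← Category.assoc]
        exact congrArg (fun z => z ≫ e.hom) (s1 k).symm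
      rw [h3, he2]
      exact s2 k
  let α₀ : CurvSt.PtFamObj.Hom (⟨Over.mk a, X, p, σ, hσ⟩ : CurvSt.PtFamObj S n) ⟨Over.mk a, Y, q, τ, hτ⟩ :=
    ⟨𝟙 _, e.hom, sq, fun k => (hs k).trans (Category.id_comp _).symm⟩
  let α : (⟨⟨Over.mk a, X, p, σ, hσ⟩, P₁⟩ : (CurvSt.Mbar S g n).obj) ⟶ ⟨⟨Over.mk a, Y, q, τ, hτ⟩, P₂⟩ := ⟨α₀⟩
  refine ⟨α, IsHomLift.map (CurvSt.Mbar S g n).p α, ?_⟩
  apply ObjectProperty.hom_ext
  refine CurvSt.PtFamObj.hom_ext ?_ he2
  change r₁.hom.base ≫ 𝟙 _ = r₂.hom.base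
  rw [m1, m2]
  exact Category.comp_id _

end K508.Uniq
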