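import Groth.Agent.CurvSt.K508.UniqFam
import Groth.Agent.CurvSt.K316.MbarAlg
import Groth.Agent.CurvSt.K898.SepMbar
import Mathlib.AlgebraicGeometry.ValuativeCriterion

/-!
# Uniqueness of limits of stable pointed curves from separatedness
-/

set_option autoImplicit false

universe u

open CategoryTheory CategoryTheory.Limits AlgebraicGeometry Opposite CurvSt

namespace K508.Uniq

/-- Points of proper schemes over discrete valuation rings lift. -/
theorem exists_section_of_proper {R L : Type u} [CommRing R] [IsDomain R] [ValuationRing R] [Field L] [Algebra R L]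
    [IsFractionRing R L] {W : Scheme.{u}} (w : W ⟶ Spec (CommRingCat.of R)) [IsProper w]
    (r : Spec (CommRingCat.of L) ⟶ W) (hr : r ≫ w = gen R L) :
    ∃ s : Spec (CommRingCat.of R) ⟶ W, s ≫ w = 𝟙 _ ∧ gen R L ≫ s = r := by
  have h1 : UniversallyClosed w := inferInstance
  rw [UniversallyClosed.eq_valuativeCriterion] at h1
  let S : ValuativeCommSq w := { R := R, K := L, i₁ := r, i₂ := 𝟙 _, commSq := ⟨by rw [hr, Category.comp_id]⟩ }
  have h2 := h1.1 S
  exact ⟨h2.exists_lift.some.l, h2.exists_lift.some.fac_right, h2.exists_lift.some.fac_left⟩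

open K898.IsomFin K898.IsomMain K898.QCFinal in
/-- **Separatedness implies uniqueness of limits.** -/
theorem uniqFam_of_isSeparatedOver {g n : ℕ} (hg : 3 ≤ 2 * g + n)
    (h : ∀ (S : Scheme.{u}) [IsLocallyNoetherian S], AlgSt.IsSeparatedOver (Mbar S g n)) : UniqFam.{u} g n := by
  intro R _ _ _ hR L _ _ _ X Y C p q σ hσ τ hτ hX hY f x hx i hi j hj hxi hxj
  have hd := K898.SepAll.isFinite_of (h (Spec (CommRingCat.of R))) (K316.MbarAlg.isDMOver_mbar _ hg)
  obtain ⟨W, CW, w, c, ρ, a, b, hw, U⟩ := exists_univI_noeth (P := PStab g n) (K898.SepMbar.bc_stab g n) hd hX hY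
  obtain ⟨r, v, r1, r2, r3, r4⟩ := U.exists_hom (gen R L) f x i j hx hi hj hxi hxj
  obtain ⟨s, s1, s2⟩ := exists_section_of_proper w r r1
  have A : IsPullback (pullback.fst c s ≫ a) (pullback.snd c s) p (s ≫ w) :=
    (IsPullback.of_hasPullback c s).paste_horiz U.sqa
  have B : IsPullback (pullback.fst c s ≫ b) (pullback.snd c s) q (s ≫ w) :=
    (IsPullback.of_hasPullback c s).paste_horiz U.sqb
  rw [s1] at A B
  have iA : IsIso (pullback.fst c s ≫ a) := A.isIso_fst_of_isIso
  have iB : IsIso (pullback.fst c s ≫ b) := B.isIso_fst_of_isIso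
  have hA : (pullback.fst c s ≫ a) ≫ p = pullback.snd c s := A.w.trans (Category.comp_id _)
  have hB : (pullback.fst c s ≫ b) ≫ q = pullback.snd c s := B.w.trans (Category.comp_id _)
  let m : C ⟶ pullback c s := pullback.lift v (f ≫ gen R L) (by rw [r2, Category.assoc, s2])
  have m1 : m ≫ pullback.fst c s = v := pullback.lift_fst _ _ _
  refine ⟨(asIso (pullback.fst c s ≫ a)).symm ≪≫ asIso (pullback.fst c s ≫ b), ?_, ?_⟩
  · change (inv (pullback.fst c s ≫ a) ≫ (pullback.fst c s ≫ b)) ≫ q = p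
    rw [Category.assoc, hB, IsIso.inv_comp_eq, hA]
  · change i ≫ inv (pullback.fst c s ≫ a) ≫ (pullback.fst c s ≫ b) = j
    have hi' : i = m ≫ (pullback.fst c s ≫ a) := by rw [← Category.assoc, m1, r3]
    rw [hi', Category.assoc, IsIso.hom_inv_id_assoc, ← Category.assoc, m1, r4]

end K508.Uniq
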