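import Groth.Agent.CurvSt.K508.ZarProp

/-!
# Connectedness of the closed fibre from connectedness of the generic fibre (helper508)

* `isOpenMap_base`: for an algebraic stack which is smooth (or flat and lfp) over `S`, `|𝒳| → S` is open.
* `dense_generic`: `S` irreducible ⟹ the part of `|𝒳|` over the generic point is dense; `preconnectedSpace_of_generic`.
* `isPreconnected_closedFibre_of_generic`: `A` a henselian local domain, `𝒳` proper and smooth over `A` with a finite
  surjective cover by a scheme: generic fibre preconnected ⟹ closed fibre preconnected.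
-/

set_option autoImplicit false
set_option backward.isDefEq.respectTransparency false
set_option backward.isDefEq.respectTransparency.types false

universe v₃ u₃ v₂ u₂ v u

open CategoryTheory CategoryTheory.Limits AlgebraicGeometry K735.Pts K735.Fib K735.Fp

namespace K508.ZarSt

section Chart

variable {S : Scheme.{u}} {𝒳 : BasedCategory.{v₂, u₂} (Over S)}

/-- The structure map on points is open if there is a continuous surjective chart which is open over the base. -/
theorem isOpenMap_base_of_chart {U : Over S} (x : FibCat.overCat U ⥤ᵇ 𝒳)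
    (hc : Continuous (AlgSt.Points.ofChart x)) (hs : Function.Surjective (AlgSt.Points.ofChart x))
    (ho : IsOpenMap U.hom) : IsOpenMap (base : AlgSt.Points 𝒳 → ↥S) := by
  intro W hW
  have h1 : base '' W = U.hom '' (AlgSt.Points.ofChart x ⁻¹' W) := by
    ext s
    constructor
    · rintro ⟨w, hw, rfl⟩
      obtain ⟨t, rfl⟩ := hs w
      exact ⟨t, hw, (base_ofChart x t).symm⟩
    · rintro ⟨t, ht, rfl⟩
      exact ⟨_, ht, base_ofChart x t⟩
  rw [h1]
  exact ho _ (hW.preimage hc)

/-- In a topological space with an open map to an irreducible space with generic point `η`, the fibre over `η` is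
dense. -/
theorem dense_preimage_of_isOpenMap {M T : Type*} [TopologicalSpace M] [TopologicalSpace T] {f : M → T}
    (hf : IsOpenMap f) {η : T} (hη : IsGenericPoint η (Set.univ : Set T)) : Dense (f ⁻¹' {η}) := by
  rw [dense_iff_inter_open]
  intro W hW hne
  have h1 : η ∈ f '' W := by
    refine (hη.mem_open_set_iff (hf W hW)).2 ?_
    rw [Set.univ_inter]
    exact hne.image f
  obtain ⟨w, hw, h⟩ := h1
  exact ⟨w, hw, h⟩

theorem preconnectedSpace_of_dense {M : Type*} [TopologicalSpace M] {Z : Set M} (hZ : IsPreconnected Z)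
    (hd : Dense Z) : PreconnectedSpace M := by
  refine ⟨?_⟩
  have := hZ.closure
  rwa [hd.closure_eq] at this

end Chart

section Smooth

variable {S : Scheme.{u}} {𝒳 : AlgSt.Cat S}

/-- A chart of a stack which has `P` over the base has `P` over the base. -/
theorem exists_chart_over_base {P : MorphismProperty Scheme.{u}} (hP : K742.NiceP P)
    (h : AlgSt.LocQ (AlgSp.LocP P) (FibCat.toSelf 𝒳)) :
    ∃ (U : Over S) (x : FibCat.overCat U ⥤ᵇ 𝒳), AlgSt.RepByAlgSpWith (AlgSp.LocP @Smooth) x ∧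
      AlgSt.RepByAlgSpWith AlgSp.IsSurjectiveMor x ∧ P U.hom := by
  obtain ⟨U, x, hx, hxs, hc⟩ := K742.EvQ.exists_comp_of_locQ hP h
  refine ⟨U, x, hx, hxs, ?_⟩
  rw [K738.Lft.comp_toSelf] at hc
  have := K735.Top.locP_respectsIso (S := S) P
  have h3 := (hP.yon_iff _).1 (yon_of_toSelf hc)
  rwa [mkIdTerminal_from_left] at h3

/-- **`|𝒳| → S` is open for a smooth algebraic stack.** -/
theorem isOpenMap_base (h𝒳 : AlgSt.IsAlgStack Scheme.etalePrecoverage 𝒳)
    (hsm : AlgSt.LocQ (AlgSp.LocP @Smooth) (FibCat.toSelf 𝒳)) : IsOpenMap (base : AlgSt.Points 𝒳 → ↥S) := by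
  obtain ⟨U, x, hx, hxs, hU⟩ := exists_chart_over_base K742.nice_smooth hsm
  exact isOpenMap_base_of_chart x (K735.Top.chartCont_of_isAlgStack h𝒳 U x)
    (surjective_ofChart x (K735.Top.surjective_of_repByAlgSpWith h𝒳.isStack.1 (isFibGrpd_overCat U) hxs))
    (K735.Top.isOpenMap_of_smooth _ hU)

theorem dense_generic (h𝒳 : AlgSt.IsAlgStack Scheme.etalePrecoverage 𝒳)
    (hsm : AlgSt.LocQ (AlgSp.LocP @Smooth) (FibCat.toSelf 𝒳)) {η : ↥S} (hη : IsGenericPoint η (Set.univ : Set ↥S)) :
    Dense ((base : AlgSt.Points 𝒳 → ↥S) ⁻¹' {η}) :=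
  dense_preimage_of_isOpenMap (isOpenMap_base h𝒳 hsm) hη

theorem preconnectedSpace_of_generic (h𝒳 : AlgSt.IsAlgStack Scheme.etalePrecoverage 𝒳)
    (hsm : AlgSt.LocQ (AlgSp.LocP @Smooth) (FibCat.toSelf 𝒳)) {η : ↥S} (hη : IsGenericPoint η (Set.univ : Set ↥S))
    (hc : IsPreconnected ((base : AlgSt.Points 𝒳 → ↥S) ⁻¹' {η})) : PreconnectedSpace (AlgSt.Points 𝒳) :=
  preconnectedSpace_of_dense hc (dense_generic h𝒳 hsm hη)

end Smooth

section Main

variable (A : Type u) [CommRing A] {𝒳 : AlgSt.Cat (Spec (CommRingCat.of A))}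

theorem isGenericPoint_bot [IsDomain A] :
    IsGenericPoint (⊥ : PrimeSpectrum A) (Set.univ : Set (PrimeSpectrum A)) := by
  rw [isGenericPoint_def, PrimeSpectrum.closure_singleton]
  ext x
  simp

/-- **Connectedness of the closed fibre from connectedness of the generic fibre**, `A` a henselian local domain, `𝒳`
proper and smooth over `A` with a finite surjective cover by a scheme (S16819). -/
theorem isPreconnected_closedFibre_of_generic [IsDomain A] [HenselianLocalRing A]
    (h𝒳 : AlgSt.IsAlgStack Scheme.etalePrecoverage 𝒳) (hsep : AlgSt.IsSeparatedOver 𝒳)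
    (hsm : AlgSt.LocQ (AlgSp.LocP @Smooth) (FibCat.toSelf 𝒳))
    (hft : AlgSt.LocQ (AlgSp.LocP @LocallyOfFiniteType) (FibCat.toSelf 𝒳))
    (huc : AlgSt.IsUnivClosed Scheme.etalePrecoverage (FibCat.toSelf 𝒳))
    (H : ∃ (Z : Over (Spec (CommRingCat.of A))) (z : FibCat.overCat Z ⥤ᵇ 𝒳),
      AlgSt.RepByAlgSpWith AlgSp.IsFiniteMor z ∧ AlgSt.RepByAlgSpWith AlgSp.IsSurjectiveMor z)
    (hgen : IsPreconnected ((base : AlgSt.Points 𝒳 → _) ⁻¹' {(⊥ : PrimeSpectrum A)})) :
    IsPreconnected ((base : AlgSt.Points 𝒳 → _) ⁻¹' {(IsLocalRing.closedPoint A : PrimeSpectrum A)}) := by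
  have := preconnectedSpace_of_generic h𝒳 hsm (isGenericPoint_bot A) hgen
  exact isPreconnected_closedFibre_of_cover A h𝒳 hsep hft huc H

/-- The form with test spaces: `P₁ → |𝒳|` continuous with image the generic fibre, `P₀ → |𝒳|` inducing with image the
closed fibre. -/
theorem preconnectedSpace_special_of_generic [IsDomain A] [HenselianLocalRing A]
    (h𝒳 : AlgSt.IsAlgStack Scheme.etalePrecoverage 𝒳) (hsep : AlgSt.IsSeparatedOver 𝒳)
    (hsm : AlgSt.LocQ (AlgSp.LocP @Smooth) (FibCat.toSelf 𝒳))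
    (hft : AlgSt.LocQ (AlgSp.LocP @LocallyOfFiniteType) (FibCat.toSelf 𝒳))
    (huc : AlgSt.IsUnivClosed Scheme.etalePrecoverage (FibCat.toSelf 𝒳))
    (H : ∃ (Z : Over (Spec (CommRingCat.of A))) (z : FibCat.overCat Z ⥤ᵇ 𝒳),
      AlgSt.RepByAlgSpWith AlgSp.IsFiniteMor z ∧ AlgSt.RepByAlgSpWith AlgSp.IsSurjectiveMor z)
    {P₁ P₀ : Type*} [TopologicalSpace P₁] [TopologicalSpace P₀] [PreconnectedSpace P₁]
    {c₁ : P₁ → AlgSt.Points 𝒳} (hc₁ : Continuous c₁)
    (hr₁ : Set.range c₁ = (base : AlgSt.Points 𝒳 → _) ⁻¹' {(⊥ : PrimeSpectrum A)})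
    {c₀ : P₀ → AlgSt.Points 𝒳} (hc₀ : Topology.IsInducing c₀)
    (hr₀ : Set.range c₀ = (base : AlgSt.Points 𝒳 → _) ⁻¹' {(IsLocalRing.closedPoint A : PrimeSpectrum A)}) :
    PreconnectedSpace P₀ := by
  have h1 : IsPreconnected (Set.range c₁) := isPreconnected_range hc₁
  rw [hr₁] at h1
  have h2 := isPreconnected_closedFibre_of_generic A h𝒳 hsep hsm hft huc H h1
  rw [← hr₀, ← Set.image_univ] at h2
  exact ⟨(hc₀.isPreconnected_image).1 h2⟩

end Main

end K508.ZarSt
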