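import Groth.Agent.CurvSt.K508.ZarSt
import Groth.Agent.AlgSt.K608.KMCls
import Groth.Agent.AlgSt.K738.YonProps
import Groth.Agent.AlgSt.K738.RepSep
import Groth.Agent.AlgSt.K746.DiagFin
import Groth.Agent.AlgSt.K735.DvrMain
import Groth.Agent.AlgSt.K742.EvQ
import Groth.Agent.S12828
import Groth.Agent.AlgSt.K736.FinDiag
import Groth.Agent.AlgSt.K740.SpDM

/-!
# Finite covers of proper algebraic stacks are proper (helper508)

* `isClosedMap_of_finite`: `z : (Sch/Z) ⟶ 𝒳` finite ⟹ closed on points.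
* `compactSpace_of_finite`, `isProper_of_finite`: `𝒳` separated, locally of finite type, quasi-compact, universally closed
  over `S = Spec A`, `z : (Sch/Z) ⟶ 𝒳` finite ⟹ `Z ⟶ S` proper.
* `isPreconnected_closedFibre_of_cover`: Zariski connectedness for a proper algebraic stack over a henselian local ring
  which has a finite surjective cover by a scheme (S16819).
-/

set_option autoImplicit false
set_option backward.isDefEq.respectTransparency false
set_option backward.isDefEq.respectTransparency.types false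

universe v₃ u₃ v₂ u₂ v u

open CategoryTheory CategoryTheory.Limits AlgebraicGeometry K735.Pts K735.Fib K735.Fp

namespace K508.ZarSt

section Finite

variable {S : Scheme.{u}} {𝒳 : BasedCategory.{v₂, u₂} (Over S)}

theorem isClosedMap_of_finite (h𝒳 : FibCat.IsFibGrpd 𝒳.p) {Z : Over S} (z : FibCat.overCat Z ⥤ᵇ 𝒳)
    (hz : AlgSt.RepByAlgSpWith AlgSp.IsFiniteMor z) : IsClosedMap (AlgSt.Points.map z) := by
  refine K735.Univ.isClosedMap_of_with h𝒳 (isFibGrpd_overCat Z) (K735.Top.chartCont_overCat Z) ?_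
  intro U y
  obtain ⟨F, e, he, hP⟩ := hz U y
  exact ⟨F, e, he, K735.Univ.univSp_le _ (K746.DiagFin.isProperMor_of_isFiniteMor _ hP).2.2⟩

/-- The source of a finite chart of a quasi-compact stack is quasi-compact. -/
theorem compactSpace_of_finite (h𝒳 : FibCat.IsFibGrpd 𝒳.p) (hqc : AlgSt.IsQuasiCompact 𝒳) {Z : Over S}
    (z : FibCat.overCat Z ⥤ᵇ 𝒳) (hz : AlgSt.RepByAlgSpWith AlgSp.IsFiniteMor z) : CompactSpace ↥Z.left := by
  obtain ⟨U, x, hU, -, hxs⟩ := hqc
  obtain ⟨F, e, he, hP⟩ := hz U x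
  obtain ⟨W, i, fst, sq, hW, -⟩ := hP hU (𝟙 _)
  have hfst : IsIso fst := sq.isIso_fst_of_isIso
  let φ : AlgSp.Points F.obj → AlgSt.Points (FibCat.overCat Z) := fun ξ =>
    AlgSt.Points.map (BasedFunctor.comp e (FibCat.fpSnd x z)) ((K735.PtsSp.ptsEquiv F.obj).symm ξ)
  have hφ : Continuous φ := K735.Univ.continuous_of_ofSp (K735.Top.chartCont_overCat Z) _
  have hs := K735.Top.surjective_of_repByAlgSpWith h𝒳 (isFibGrpd_overCat U) hxs
  rw [K735.PtsSp.surjective_map_iff_surjective_ofChart] at hs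
  have hφs : Function.Surjective φ := by
    intro t
    obtain ⟨u, hu⟩ := hs (AlgSt.Points.map z t)
    obtain ⟨ξ, -, h2⟩ := (K735.Top.exists_rep_fp h𝒳 (isFibGrpd_overCat Z) x e he u t).1 hu
    exact ⟨ξ, h2⟩
  have c1 : CompactSpace ↥W.left := inferInstance
  have c2 : CompactSpace (AlgSp.Points ((AlgSp.yon S).obj W)) :=
    (AlgSp.Points.schemeHomeo W).compactSpace
  have h1 : Function.Surjective (AlgSp.Points.map fst) := fun ξ =>
    ⟨AlgSp.Points.map (inv fst) ξ, by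
      rw [← AlgSp.Points.map_comp, IsIso.inv_hom_id, AlgSp.Points.map_id]⟩
  have c3 : CompactSpace (AlgSp.Points F.obj) := h1.compactSpace (AlgSp.Points.continuous_map fst)
  have c4 : CompactSpace (AlgSt.Points (FibCat.overCat Z)) := hφs.compactSpace hφ
  exact (homeoOverCat Z).symm.compactSpace

end Finite

section Yon

variable {S : Scheme.{u}}

theorem mkIdTerminal_from_left (U : Over S) : (Over.mkIdTerminal.from U).left = U.hom := by
  rw [Over.mkIdTerminal.hom_ext (Over.mkIdTerminal.from U) (Over.homMk U.hom)]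
  rfl

/-- A property of the structure functor of a scheme, read on the morphism to the final object. -/
theorem yon_of_toSelf {Q : MorphismProperty (AlgSp.Sp S)} [Q.RespectsIso] {U : Over S}
    (h : AlgSt.RepByAlgSpWith Q (FibCat.toSelf (FibCat.overCat U))) :
    Q ((AlgSp.yon S).map (Over.mkIdTerminal.from U)) := by
  have h1 : AlgSt.RepByAlgSpWith Q (AlgSt.overMap (Over.mkIdTerminal.from U)) :=
    (K735.Rep.repByAlgSpWith_iff_of_sq Q (FibCat.toSelf (FibCat.overCat U))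
      (AlgSt.overMap (Over.mkIdTerminal.from U)) (BasedFunctor.id _)
      (FibCat.toSelf (FibCat.overCat (Over.mk (𝟙 S)))) K735.Fib.isEquivOver_id
      (K740.DiagRep.isEquivOver_toSelf_overCat Over.mkIdTerminal) (K739.Alg.selfIso _ _)).1 h
  have h2 : AlgSt.RepByAlgSpWith Q (AlgSt.ofSpMap ((AlgSp.yon S).map (Over.mkIdTerminal.from U))) :=
    (K735.Rep.repByAlgSpWith_iff_of_sq Q (AlgSt.ofSpMap ((AlgSp.yon S).map (Over.mkIdTerminal.from U)))
      (AlgSt.overMap (Over.mkIdTerminal.from U))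
      (AlgSt.ofOverCat _) (AlgSt.ofOverCat _) (K735.Rep.isEquivOver_ofOverCat _) (K735.Rep.isEquivOver_ofOverCat _)
      (Iso.refl _)).2 h1
  exact ((K735.SpFp.repByAlgSpWith_ofSpMap_iff Q _).1 h2 (𝟙 _) _ (𝟙 _)
    (IsPullback.of_vert_isIso ⟨by rw [Category.comp_id, Category.id_comp]⟩)).2

theorem repByAlgSp1_toSelf (U : Over S) : AlgSt.RepByAlgSp1 (FibCat.toSelf (FibCat.overCat U)) := by
  rw [K735.Rep.repByAlgSp1_iff_top]
  exact K736.FinDiag.repByAlgSpWith_toSelf_overCat K739.Alg.bc_top trivial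

end Yon

section Proper

variable {S : Scheme.{u}} {𝒳 : AlgSt.Cat S}

theorem isAlgStack_selfOver_et : AlgSt.IsAlgStack Scheme.etalePrecoverage (FibCat.selfOver (Over S)) :=
  K735.DvrMain.isAlgStack_et_of_fppf (K740.SpDM.isAlgStack_of_repByAlgSp (K740.DiagRep.repByAlgSp_selfOver S))

/-- Universally closed: composition of a finite chart and the structure functor. -/
theorem univClosed_toSelf (h𝒳 : AlgSt.IsAlgStack Scheme.etalePrecoverage 𝒳)
    (huc : AlgSt.IsUnivClosed Scheme.etalePrecoverage (FibCat.toSelf 𝒳)) {Z : Over S}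
    (z : FibCat.overCat Z ⥤ᵇ 𝒳) (hz : AlgSt.RepByAlgSpWith AlgSp.IsFiniteMor z) :
    AlgSt.IsUnivClosed Scheme.etalePrecoverage (FibCat.toSelf (FibCat.overCat Z)) := by
  have hself := isAlgStack_selfOver_et (S := S)
  have hov := K735.DvrMain.isAlgStack_overCat_et Z
  rw [← K738.Lft.comp_toSelf z]
  intro 𝒲 h𝒲 g
  have a1 := K734.Rep.isAlgStack_fp (K734.Rep.isPrestack_of_isStack hself.isStack) hself.diag h𝒲 h𝒳 g
    (FibCat.toSelf 𝒳)
  have a2 := K734.Rep.isAlgStack_fp (K734.Rep.isPrestack_of_isStack h𝒳.isStack) h𝒳.diag a1 hov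
    (FibCat.fpSnd g (FibCat.toSelf 𝒳)) z
  have e2 := K735.Univ.isHomeomorph_map_of_isEquivOver (K734.Fib.isEquivOver_fpComp g (FibCat.toSelf 𝒳) z)
  have e3 : AlgSt.Points.map (FibCat.fpFst g (BasedFunctor.comp z (FibCat.toSelf 𝒳))) ∘
        AlgSt.Points.map (K734.Fib.fpComp g (FibCat.toSelf 𝒳) z) =
      AlgSt.Points.map (FibCat.fpFst g (FibCat.toSelf 𝒳)) ∘
        AlgSt.Points.map (FibCat.fpFst (FibCat.fpSnd g (FibCat.toSelf 𝒳)) z) := by
    funext w
    rw [Function.comp_apply, Function.comp_apply, ← K735.Pts.map_comp, ← K735.Pts.map_comp, K734.Fib.fpComp_fst']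
  refine K746.UHomeo.isClosedMap_of_surj e2.continuous e2.surjective ?_
  rw [e3]
  refine (huc 𝒲 h𝒲 g).comp (K735.Univ.isClosedMap_of_with a1.isStack.1 a2.isStack.1
    (K735.Top.chartCont_of_isAlgStack a2) ?_)
  intro U y
  obtain ⟨F, e, he, hP⟩ := K735.Univ.repByAlgSpWith_fpFst (FibCat.fpSnd g (FibCat.toSelf 𝒳)) hz U y
  exact ⟨F, e, he, K735.Univ.univSp_le _ (K746.DiagFin.isProperMor_of_isFiniteMor _ hP).2.2⟩

theorem universallyClosed_hom {Z : Over S}
    (h : AlgSt.IsUnivClosed Scheme.etalePrecoverage (FibCat.toSelf (FibCat.overCat Z))) : UniversallyClosed Z.hom := by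
  have h' : AlgSt.IsUnivClosed Scheme.fppfPrecoverage (FibCat.toSelf (FibCat.overCat Z)) := fun 𝒲 h𝒲 g =>
    h 𝒲 (K735.DvrMain.isAlgStack_et_of_fppf h𝒲) g
  have h2 := (Groth.Agent.S12828.result (K744.AlgOver.isAlgStack_overCat Z)
    (K740.SpDM.isAlgStack_of_repByAlgSp (K740.DiagRep.repByAlgSp_selfOver S)) _ (repByAlgSp1_toSelf Z)).2 h'
  have h3 := yon_of_toSelf h2
  rw [K738.isUnivClosedMor_yon_iff, mkIdTerminal_from_left] at h3
  exact h3

/-- Finite and separated over a separated stack: separated. -/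
theorem isSeparated_hom (h𝒳 : FibCat.IsFibGrpd 𝒳.p) (hsep : AlgSt.IsSeparatedOver 𝒳) {Z : Over S}
    (z : FibCat.overCat Z ⥤ᵇ 𝒳) (hz : AlgSt.RepByAlgSpWith AlgSp.IsFiniteMor z) : IsSeparated Z.hom := by
  have h0 : AlgSt.RepByAlgSpWith AlgSp.IsSeparatedMor z := by
    intro U y
    obtain ⟨F, e, he, hP⟩ := hz U y
    exact ⟨F, e, he, (K746.DiagFin.isProperMor_of_isFiniteMor _ hP).1⟩
  have h1 : AlgSt.IsSeparatedMor z := ((K738.tfae_separated (K738.repByAlgSp1_of h0)).out 0 2 rfl rfl).1 h0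
  have h2 := K739.DiagComp.repByAlgSpWith_diag_comp (isFibGrpd_overCat Z) h𝒳 K735.Fp.isFibGrpd_selfOver z
    (FibCat.toSelf 𝒳) K739.Props.bc_proper K739.Props.comp_proper K739.Props.fppfDesc_proper.etDesc h1 hsep
  rw [K738.Lft.comp_toSelf] at h2
  have h5 := ((K738.tfae_separated (repByAlgSp1_toSelf Z)).out 2 0 rfl rfl).1 h2
  have h6 := yon_of_toSelf h5
  rw [AlgSp.isSeparatedMor_yon_map_iff, mkIdTerminal_from_left] at h6
  exact h6

/-- Finite over a stack locally of finite type: locally of finite type. -/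
theorem lft_hom (h𝒳 : AlgSt.IsAlgStack Scheme.etalePrecoverage 𝒳)
    (hft : AlgSt.LocQ (AlgSp.LocP @LocallyOfFiniteType) (FibCat.toSelf 𝒳)) {Z : Over S}
    (z : FibCat.overCat Z ⥤ᵇ 𝒳) (hz : AlgSt.RepByAlgSpWith AlgSp.IsFiniteMor z) : LocallyOfFiniteType Z.hom := by
  have hself := isAlgStack_selfOver_et (S := S)
  have hov := K735.DvrMain.isAlgStack_overCat_et Z
  have h0 : AlgSt.RepByAlgSpWith (AlgSp.LocP @LocallyOfFiniteType) z := by
    intro U y
    obtain ⟨F, e, he, hP⟩ := hz U y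
    refine ⟨F, e, he, ?_⟩
    rw [K634.FiniteMor.isFiniteMor_iff] at hP
    exact K738.Lft.locP_lft_of_repWith (K595.RepDesc.repWith_mono
      (fun _ _ g (hg : IsFinite g) => (inferInstance : LocallyOfFiniteType g)) hP)
  have h1 := K742.EvQ.locQ_of_rep K742.nice_lft (isFibGrpd_overCat Z) h𝒳.isStack.1 hov.atlas h𝒳.atlas z h0
  have h2 := K742.EvQ.locQ_comp K742.nice_lft (isFibGrpd_overCat Z) h𝒳.isStack.1 hself.isStack.1 hov.atlas
    h𝒳.atlas hself.atlas z (FibCat.toSelf 𝒳) h1 hft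
  rw [K738.Lft.comp_toSelf] at h2
  obtain ⟨U, x, hx, hxs, hc⟩ := K742.EvQ.exists_comp_of_locQ K742.nice_lft h2
  obtain ⟨b, ⟨i⟩⟩ := K735.Top.exists_iso_overMap x
  have hb : Smooth b.left := (K742.nice_smooth.overMap_iff b).1 (K735.Rep.repByAlgSpWith_of_iso _ i hx)
  have hbs : Surjective b.left := by
    refine ⟨fun t => ?_⟩
    have hs := K735.Top.surjective_of_repByAlgSpWith (isFibGrpd_overCat Z) (isFibGrpd_overCat U) hxs
    rw [K735.PtsSp.surjective_map_iff_surjective_ofChart] at hs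
    obtain ⟨s, hs⟩ := hs (AlgSt.Points.ofChart (BasedFunctor.id _) t)
    refine ⟨s, (K735.PtsSp.ofChart_id_bijective Z).1 ?_⟩
    rw [← hs, ← K735.PtsSp.ofChart_overMap]
    exact (K735.PtsSp.ofChart_congr i s).symm
  rw [K738.Lft.comp_toSelf] at hc
  have h3 := yon_of_toSelf hc
  rw [K738.locP_lft_yon_iff, mkIdTerminal_from_left] at h3
  refine K742.nice_lft.desc b.left Z.hom hb hbs ?_
  have : b.left ≫ Z.hom = U.hom := Over.w b
  rw [this]
  exact h3

/-- **A scheme finite over a proper algebraic stack is proper.** -/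
theorem isProper_of_finite (h𝒳 : AlgSt.IsAlgStack Scheme.etalePrecoverage 𝒳) (hsep : AlgSt.IsSeparatedOver 𝒳)
    (hft : AlgSt.LocQ (AlgSp.LocP @LocallyOfFiniteType) (FibCat.toSelf 𝒳))
    (huc : AlgSt.IsUnivClosed Scheme.etalePrecoverage (FibCat.toSelf 𝒳)) {Z : Over S}
    (z : FibCat.overCat Z ⥤ᵇ 𝒳) (hz : AlgSt.RepByAlgSpWith AlgSp.IsFiniteMor z) : IsProper Z.hom := by
  have h1 := isSeparated_hom h𝒳.isStack.1 hsep z hz
  have h2 := lft_hom h𝒳 hft z hz
  have h3 := universallyClosed_hom (univClosed_toSelf h𝒳 huc z hz)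
  exact { }

end Proper

section Main

variable (A : Type u) [CommRing A] {𝒳 : AlgSt.Cat (Spec (CommRingCat.of A))}

/-- **Zariski connectedness for proper algebraic stacks** (henselian pair), from a finite surjective cover by a
scheme. -/
theorem isPreconnected_fibre_of_cover (I : Ideal A) [HenselianRing A I]
    (h𝒳 : AlgSt.IsAlgStack Scheme.etalePrecoverage 𝒳) (hsep : AlgSt.IsSeparatedOver 𝒳)
    (hft : AlgSt.LocQ (AlgSp.LocP @LocallyOfFiniteType) (FibCat.toSelf 𝒳))
    (huc : AlgSt.IsUnivClosed Scheme.etalePrecoverage (FibCat.toSelf 𝒳))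
    (H : ∃ (Z : Over (Spec (CommRingCat.of A))) (z : FibCat.overCat Z ⥤ᵇ 𝒳),
      AlgSt.RepByAlgSpWith AlgSp.IsFiniteMor z ∧ AlgSt.RepByAlgSpWith AlgSp.IsSurjectiveMor z)
    [PreconnectedSpace (AlgSt.Points 𝒳)] :
    IsPreconnected ((base : AlgSt.Points 𝒳 → _) ⁻¹' (PrimeSpectrum.zeroLocus (I : Set A))) := by
  obtain ⟨Z, z, hz, hzs⟩ := H
  have := isProper_of_finite h𝒳 hsep hft huc z hz
  exact isPreconnected_fibre A z I (K735.Top.chartCont_of_isAlgStack h𝒳 Z z)
    (isClosedMap_ofChart z (isClosedMap_of_finite h𝒳.isStack.1 z hz))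
    (surjective_ofChart z (K735.Top.surjective_of_repByAlgSpWith h𝒳.isStack.1 (isFibGrpd_overCat Z) hzs))

/-- **Zariski connectedness for proper algebraic stacks** over a henselian local ring, from a finite surjective cover
by a scheme (S16819). -/
theorem isPreconnected_closedFibre_of_cover [HenselianLocalRing A]
    (h𝒳 : AlgSt.IsAlgStack Scheme.etalePrecoverage 𝒳) (hsep : AlgSt.IsSeparatedOver 𝒳)
    (hft : AlgSt.LocQ (AlgSp.LocP @LocallyOfFiniteType) (FibCat.toSelf 𝒳))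
    (huc : AlgSt.IsUnivClosed Scheme.etalePrecoverage (FibCat.toSelf 𝒳))
    (H : ∃ (Z : Over (Spec (CommRingCat.of A))) (z : FibCat.overCat Z ⥤ᵇ 𝒳),
      AlgSt.RepByAlgSpWith AlgSp.IsFiniteMor z ∧ AlgSt.RepByAlgSpWith AlgSp.IsSurjectiveMor z)
    [PreconnectedSpace (AlgSt.Points 𝒳)] :
    IsPreconnected ((base : AlgSt.Points 𝒳 → _) ⁻¹' {(IsLocalRing.closedPoint A : PrimeSpectrum A)}) := by
  obtain ⟨Z, z, hz, hzs⟩ := H
  have := isProper_of_finite h𝒳 hsep hft huc z hz
  exact isPreconnected_closedFibre A z (K735.Top.chartCont_of_isAlgStack h𝒳 Z z)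
    (isClosedMap_ofChart z (isClosedMap_of_finite h𝒳.isStack.1 z hz))
    (surjective_ofChart z (K735.Top.surjective_of_repByAlgSpWith h𝒳.isStack.1 (isFibGrpd_overCat Z) hzs))

end Main

end K508.ZarSt
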