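import Groth.Agent.CurvSt.K896.Final
import Groth.Agent.CurvSt.K508.ZarProp
import Groth.Agent.S16819

/-!
# Zariski connectedness for the stack of stable curves (helper508)

`K508.ZarRow.zarStmt : K896.Final.ZarStmt` from the statements of S16723 and S16726 (and S16819).
-/

set_option autoImplicit false
set_option backward.isDefEq.respectTransparency false
set_option backward.isDefEq.respectTransparency.types false

universe u

open CategoryTheory CategoryTheory.Limits AlgebraicGeometry CurvSt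

namespace K508.ZarRow

/-- A quasi-compact algebraic stack over a quasi-compact scheme is quasi-compact. -/
theorem isQuasiCompact_of_mor {S : Scheme.{u}} [CompactSpace ↥S] {𝒳 : AlgSt.Cat S}
    (h : AlgSt.IsQuasiCompactMor Scheme.etalePrecoverage (FibCat.toSelf 𝒳)) : AlgSt.IsQuasiCompact 𝒳 := by
  have : CompactSpace ↥(Over.mk (𝟙 S) : Over S).left := inferInstanceAs (CompactSpace ↥S)
  obtain ⟨U, x, hU, hx, hxs⟩ := h (FibCat.overCat (Over.mk (𝟙 S))) (K735.DvrMain.isAlgStack_overCat_et _)
    (K742.QC.isQuasiCompact_overCat _) (FibCat.toSelf (FibCat.overCat (Over.mk (𝟙 S))))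
  have he := K734.Fib.isEquivOver_fpSnd (FibCat.toSelf (FibCat.overCat (Over.mk (𝟙 S)))) (FibCat.toSelf 𝒳)
    (K740.DiagRep.isEquivOver_toSelf_overCat Over.mkIdTerminal)
  exact ⟨U, BasedFunctor.comp x _, hU, K735.Univ.repByAlgSpWith_comp_equiv he hx,
    K735.Univ.repByAlgSpWith_comp_equiv he hxs⟩

theorem base_eq_basePt {S : Scheme.{u}} {g n : ℕ} (x : AlgSt.Points (Mbar S g n)) :
    K508.ZarSt.base x = K896.BaseCh.basePt x := by
  obtain ⟨p, rfl⟩ := AlgSt.Points.mk_surjective x
  rfl

/-- Zariski connectedness for the stack of stable curves. -/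
theorem zarStmt
    (h23 : ∀ (S : Scheme.{u}) (g n : ℕ), 3 ≤ 2 * g + n → AlgSt.IsDM Scheme.etalePrecoverage (Mbar S g n))
    (h26 : ∀ (S : Scheme.{u}) (g n : ℕ), 3 ≤ 2 * g + n →
      AlgSt.IsSeparatedOver (Mbar S g n) ∧
      AlgSt.LocQ (AlgSp.LocP @LocallyOfFiniteType) (FibCat.toSelf (Mbar S g n)) ∧
      AlgSt.IsQuasiCompactMor Scheme.etalePrecoverage (FibCat.toSelf (Mbar S g n)) ∧
      AlgSt.IsUnivClosed Scheme.etalePrecoverage (FibCat.toSelf (Mbar S g n))) :
    K896.Final.ZarStmt.{u} := by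
  intro R _ _ _ _ g n h hc
  obtain ⟨hsep, hft, hqc, huc⟩ := h26 (Spec (CommRingCat.of R)) g n h
  have hDM := h23 (Spec (CommRingCat.of R)) g n h
  have hcov := Groth.Agent.S16819.result (Spec (CommRingCat.of R)) (Mbar (Spec (CommRingCat.of R)) g n) hDM hsep hft
    (isQuasiCompact_of_mor hqc)
  have hh : HenselianRing R (IsLocalRing.maximalIdeal R) := inferInstance
  have := K508.ZarSt.isPreconnected_fibre_of_cover R (IsLocalRing.maximalIdeal R) hDM.1 hsep hft huc hcov
  rw [K253.ZarConn.zeroLocus_maximalIdeal] at this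
  convert this using 1
  ext x
  rw [Set.mem_preimage, base_eq_basePt]
  rfl

end K508.ZarRow
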