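import Groth.Agent.CurvSt.K253.ZarConn
import Groth.Agent.AlgSt.K735.Univ

/-!
# Zariski connectedness for algebraic stacks, topological part (helper508)

* `K508.ZarSt.base`: the map `|𝒳| → S` for a category `𝒳` over `(Sch/S)`; `base_mk`, `base_map`, `base_ofChart`,
  `continuous_base`.
* `homeoOverCat`: `U ≃ₜ |(Sch/U)|`; `isClosedMap_ofChart`.
* `isPreconnected_closedFibre`: `A` henselian local, `Z` a proper `A`-scheme, `z : (Sch/Z) ⟶ 𝒳` continuous, closed and
  surjective on points, `|𝒳|` preconnected ⟹ the part of `|𝒳|` over the closed point is preconnected.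
-/

set_option autoImplicit false
set_option backward.isDefEq.respectTransparency false
set_option backward.isDefEq.respectTransparency.types false

universe v₃ u₃ v₂ u₂ v u

open CategoryTheory CategoryTheory.Limits AlgebraicGeometry K735.Pts

namespace K508.ZarSt

section Base

variable {S : Scheme.{u}} {𝒳 : BasedCategory.{v₂, u₂} (Over S)} {𝒴 : BasedCategory.{v₃, u₃} (Over S)}

/-- The point of the base under a field-valued point. -/
noncomputable def basePt (p : AlgSt.FPt 𝒳) : ↥S := p.str (IsLocalRing.closedPoint p.K)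

theorem basePt_eq_of_hom {p q : AlgSt.FPt 𝒳} (a : p.obj ⟶ q.obj) : basePt p = basePt q := by
  have h : (baseHom a).left ≫ q.str = p.str := Over.w (baseHom a)
  unfold basePt
  rw [← h, Scheme.Hom.comp_apply]
  congr 1
  exact Subsingleton.elim (α := PrimeSpectrum q.K) _ _

/-- The structure map `|𝒳| → S` on points. -/
noncomputable def base : AlgSt.Points 𝒳 → ↥S :=
  Quot.lift basePt (by
    rintro p q ⟨r, a, b, -⟩
    exact (basePt_eq_of_hom a).symm.trans (basePt_eq_of_hom b))

@[simp] theorem base_mk (p : AlgSt.FPt 𝒳) : base (AlgSt.Points.mk p) = p.str (IsLocalRing.closedPoint p.K) := rfl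

@[simp] theorem base_map (f : 𝒳 ⥤ᵇ 𝒴) (x : AlgSt.Points 𝒳) : base (AlgSt.Points.map f x) = base x := by
  obtain ⟨p, rfl⟩ := AlgSt.Points.mk_surjective x
  rfl

@[simp] theorem base_ofChart {U : Over S} (x : FibCat.overCat U ⥤ᵇ 𝒳) (t : ↥U.left) :
    base (AlgSt.Points.ofChart x t) = U.hom t := by
  change (U.left.fromSpecResidueField t ≫ U.hom) _ = _
  rw [Scheme.Hom.comp_apply]
  congr 1
  exact Scheme.fromSpecResidueField_apply _ _

theorem continuous_base : Continuous (base : AlgSt.Points 𝒳 → ↥S) := by
  rw [continuous_def]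
  intro W hW U x _
  have : AlgSt.Points.ofChart x ⁻¹' (base ⁻¹' W) = U.hom ⁻¹' W := by
    ext t
    simp only [Set.mem_preimage, base_ofChart]
  rw [this]
  exact hW.preimage U.hom.continuous

/-- `U ≃ₜ |(Sch/U)|`. -/
noncomputable def homeoOverCat (U : Over S) : ↥U.left ≃ₜ AlgSt.Points (FibCat.overCat U) :=
  Equiv.toHomeomorphOfContinuousOpen
    (Equiv.ofBijective (AlgSt.Points.ofChart (BasedFunctor.id (FibCat.overCat U)))
      (K735.PtsSp.ofChart_id_bijective U))
    (K735.Top.continuous_ofChart_id U) (by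
      refine K735.Top.isOpenMap_ofChart (BasedFunctor.id (FibCat.overCat U)) ?_
      have : AlgSt.Points.map (BasedFunctor.id (FibCat.overCat U)) = id := by
        funext x
        exact map_id x
      rw [this]
      exact IsOpenMap.id)

@[simp] theorem homeoOverCat_apply (U : Over S) (t : ↥U.left) :
    homeoOverCat U t = AlgSt.Points.ofChart (BasedFunctor.id (FibCat.overCat U)) t := rfl

theorem isClosedMap_ofChart_id (U : Over S) :
    IsClosedMap (AlgSt.Points.ofChart (BasedFunctor.id (FibCat.overCat U))) :=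
  (homeoOverCat U).isClosedMap

theorem isClosedMap_ofChart {U : Over S} (x : FibCat.overCat U ⥤ᵇ 𝒳) (h : IsClosedMap (AlgSt.Points.map x)) :
    IsClosedMap (AlgSt.Points.ofChart x) := by
  have h1 : AlgSt.Points.ofChart x = AlgSt.Points.map x ∘ AlgSt.Points.ofChart (BasedFunctor.id (FibCat.overCat U)) :=
    rfl
  rw [h1]
  exact h.comp (isClosedMap_ofChart_id U)

theorem surjective_ofChart {U : Over S} (x : FibCat.overCat U ⥤ᵇ 𝒳)
    (h : Function.Surjective (AlgSt.Points.map x)) : Function.Surjective (AlgSt.Points.ofChart x) := by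
  have h1 : AlgSt.Points.ofChart x = AlgSt.Points.map x ∘ AlgSt.Points.ofChart (BasedFunctor.id (FibCat.overCat U)) :=
    rfl
  rw [h1]
  exact h.comp (K735.PtsSp.ofChart_id_bijective U).2

end Base

section Hensel

variable (A : Type u) [CommRing A] {𝒳 : BasedCategory.{v₂, u₂} (Over (Spec (CommRingCat.of A)))}
  {Z : Over (Spec (CommRingCat.of A))} (z : FibCat.overCat Z ⥤ᵇ 𝒳) [IsProper Z.hom]

include z in
/-- **Zariski connectedness, stack form** (henselian pair). -/
theorem isPreconnected_fibre (I : Ideal A) [HenselianRing A I]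
    (hz : Continuous (AlgSt.Points.ofChart z)) (hc : IsClosedMap (AlgSt.Points.ofChart z))
    (hs : Function.Surjective (AlgSt.Points.ofChart z)) [PreconnectedSpace (AlgSt.Points 𝒳)] :
    IsPreconnected ((base : AlgSt.Points 𝒳 → _) ⁻¹' (PrimeSpectrum.zeroLocus (I : Set A))) :=
  K253.ZarConn.isPreconnected A I Z.hom (AlgSt.Points.ofChart z) hz hc hs base (fun x => base_ofChart z x)

include z in
/-- **Zariski connectedness, stack form** (henselian local ring). -/
theorem isPreconnected_closedFibre [HenselianLocalRing A]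
    (hz : Continuous (AlgSt.Points.ofChart z)) (hc : IsClosedMap (AlgSt.Points.ofChart z))
    (hs : Function.Surjective (AlgSt.Points.ofChart z)) [PreconnectedSpace (AlgSt.Points 𝒳)] :
    IsPreconnected ((base : AlgSt.Points 𝒳 → _) ⁻¹' {(IsLocalRing.closedPoint A : PrimeSpectrum A)}) :=
  K253.ZarConn.isPreconnected_closedFibre A Z.hom (AlgSt.Points.ofChart z) hz hc hs base (fun x => base_ofChart z x)

end Hensel

end K508.ZarSt
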